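import Groth.Agent.Lib.RigDatum
import Groth.Agent.Lib.BaseDescent

/-!
The normalised descent cocycle when the functions are constant over flat bases.
-/

set_option autoImplicit false
set_option linter.unusedSectionVars false
set_option linter.style.haveILetI false
set_option backward.isDefEq.respectTransparency false
set_option backward.isDefEq.respectTransparency.types false
set_option maxHeartbeats 800000

universe u

open CategoryTheory CategoryTheory.Limits AlgebraicGeometry TopologicalSpace Opposite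

noncomputable section

namespace Groth.Agent.FpqcPic.Datum

open Groth.Agent.AModX Groth.Agent.InvX Groth.Agent.UnitDescent Groth.Agent.FramesTrans Groth.Agent.RigDatum

variable {X S : Scheme.{u}} (f : X ⟶ S) [QuasiCompact f] [QuasiSeparated f] (σ : S ⟶ X) (hσ : σ ≫ f = 𝟙 S)
  (hf : ∀ U : S.Opens, Function.Bijective (f.app U))

include hf in
/-- Global functions after base change to an affine flat scheme come from it. -/
theorem bijective_appTop_affine {Q : Scheme.{u}} [IsAffine Q] (q : Q ⟶ S) [Flat q] {V : S.Opens}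
    (hV : IsAffineOpen V) (hq : (⊤ : Q.Opens) ≤ q ⁻¹ᵁ V) : Function.Bijective (pullback.snd f q).appTop := by
  let U : Q.Opens := ⊤
  have hU : IsAffineOpen U := isAffineOpen_top Q
  letI : Algebra Γ(S, V) Γ(Q, U) := (q.appLE V U hq).hom.toAlgebra
  haveI : Module.Flat Γ(S, V) Γ(Q, U) := Flat.flat_appLE q hV hU hq
  let pA : (f ⁻¹ᵁ V).toScheme ⟶ Spec (CommRingCat.of Γ(S, V)) := (f ∣_ V) ≫ hV.isoSpec.hom
  let s : Spec (CommRingCat.of Γ(Q, U)) ⟶ Spec (CommRingCat.of Γ(S, V)) :=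
    Spec.map (CommRingCat.ofHom (algebraMap Γ(S, V) Γ(Q, U)))
  haveI : IsAffine (Scheme.Opens.toScheme V) := hV
  haveI : QuasiCompact (f ∣_ V) := MorphismProperty.of_isPullback (isPullback_morphismRestrict f V).flip inferInstance
  haveI : QuasiSeparated (f ∣_ V) := MorphismProperty.of_isPullback (isPullback_morphismRestrict f V).flip inferInstance
  haveI : CompactSpace ↥(f ⁻¹ᵁ V).toScheme := QuasiCompact.compactSpace_of_compactSpace pA
  haveI : QuasiSeparatedSpace ↥(f ⁻¹ᵁ V).toScheme := AlgebraicGeometry.quasiSeparatedSpace_of_quasiSeparated pA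
  have hA : Function.Bijective (Coh.toGlobal pA) := by
    show Function.Bijective (pA.appTop ∘ (Scheme.ΓSpecIso (CommRingCat.of Γ(S, V))).inv)
    rw [Scheme.Hom.comp_appTop]
    exact ((H23.PullPush.app_morphismRestrict_bijective f hf V ⊤).comp
      (ConcreteCategory.bijective_of_isIso hV.isoSpec.hom.appTop)).comp (ConcreteCategory.bijective_of_isIso _)
  have hV' : pA ≫ hV.fromSpec = (f ⁻¹ᵁ V).ι ≫ f := by
    show ((f ∣_ V) ≫ hV.isoSpec.hom) ≫ hV.fromSpec = _
    rw [Category.assoc, IsAffineOpen.isoSpec_hom_fromSpec, morphismRestrict_ι]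
  have hs : s ≫ hV.fromSpec = hU.fromSpec ≫ q := IsAffineOpen.SpecMap_appLE_fromSpec q hV hU hq
  haveI : IsIso hU.fromSpec := by
    haveI : Surjective hU.fromSpec := ⟨fun x => by
      have : x ∈ Set.range hU.fromSpec := hU.range_fromSpec.symm ▸ trivial
      exact this⟩
    exact IsOpenImmersion.isIso hU.fromSpec
  let pB : pullback f q ⟶ Spec (CommRingCat.of Γ(Q, U)) := pullback.snd f q ≫ inv hU.fromSpec
  have hr : (⊤ : (pullback f q).Opens) ≤ pullback.fst f q ⁻¹ᵁ (f ⁻¹ᵁ V) := fun z _ => by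
    show (pullback.fst f q ≫ f) z ∈ V
    rw [pullback.condition]
    exact hq (trivial : pullback.snd f q z ∈ (⊤ : Q.Opens))
  let φ : pullback f q ⟶ (f ⁻¹ᵁ V).toScheme := lp _ (pullback.fst f q) hr
  have hw : φ ≫ pA = pB ≫ s := by
    rw [← cancel_mono hV.fromSpec, Category.assoc, hV', Category.assoc, hs, ← Category.assoc, lp_ι]
    simp [pB, pullback.condition]
  have sq : IsPullback φ pB pA s := by
    refine ⟨⟨hw⟩, ⟨PullbackCone.IsLimit.mk _
      (fun c => pullback.lift (c.fst ≫ (f ⁻¹ᵁ V).ι) (c.snd ≫ hU.fromSpec) ?_) (fun c => ?_) (fun c => ?_)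
      (fun c m h1 h2 => pullback.hom_ext ?_ ?_)⟩⟩
    · rw [Category.assoc, ← hV', ← Category.assoc, c.condition, Category.assoc, hs, Category.assoc]
    · rw [← cancel_mono (f ⁻¹ᵁ V).ι, Category.assoc, lp_ι, pullback.lift_fst]
    · simp [pB]
    · rw [pullback.lift_fst, ← h1, Category.assoc, lp_ι]
    · rw [pullback.lift_snd, ← h2]
      simp [pB]
  have h := BaseDescent.bijective_toGlobal sq hA
  change Function.Bijective (pB.appTop ∘ (Scheme.ΓSpecIso (CommRingCat.of Γ(Q, U))).inv) at h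
  have h' : Function.Bijective pB.appTop :=
    (Function.Bijective.of_comp_iff _ (ConcreteCategory.bijective_of_isIso _)).1 h
  rw [show pullback.snd f q = pB ≫ hU.fromSpec by simp [pB], Scheme.Hom.comp_appTop]
  exact h'.comp (ConcreteCategory.bijective_of_isIso hU.fromSpec.appTop)

include hσ in
theorem secT_map {Q Q' : Over S} (g : Q' ⟶ Q) :
    PicF.secT f σ hσ Q' ≫ PicF.XTmap f g = g.left ≫ PicF.secT f σ hσ Q := by
  refine pullback.hom_ext ?_ ?_
  · rw [Category.assoc, XTmap_fst, Category.assoc]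
    unfold PicF.secT
    rw [pullback.lift_fst, pullback.lift_fst, ← Category.assoc, Over.w g]
  · rw [Category.assoc, XTmap_snd, Category.assoc]
    unfold PicF.secT
    rw [pullback.lift_snd_assoc, pullback.lift_snd, Category.id_comp]
    exact (Category.comp_id _).symm

include hσ hf in
/-- A function on a flat base change is trivial if it is trivial on the section. -/
theorem eq_one_of_sec (Q : Over S) [Flat Q.hom] (D : Γ(PicF.XT f Q, ⊤)ˣ)
    (h : uP (PicF.secT f σ hσ Q) D = 1) : D = 1 := by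
  choose U hU hxU V hV hUV using fun x : Q.left =>
    (show ∃ U : Q.left.Opens, IsAffineOpen U ∧ x ∈ U ∧ ∃ V : S.Opens, IsAffineOpen V ∧ U ≤ Q.hom ⁻¹ᵁ V by
      obtain ⟨V, hV, hxV, -⟩ := exists_isAffineOpen_mem_and_subset (show Q.hom x ∈ (⊤ : S.Opens) from trivial)
      obtain ⟨U, hU, hxU, hUV⟩ := exists_isAffineOpen_mem_and_subset (show x ∈ Q.hom ⁻¹ᵁ V from hxV)
      exact ⟨U, hU, hxU, V, hV, hUV⟩)
  let Qi : Q.left → Over S := fun x => Over.mk ((U x).ι ≫ Q.hom)
  let gi : ∀ x, Qi x ⟶ Q := fun x => Over.homMk (U x).ι rfl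
  have sq : ∀ x, IsPullback (PicF.XTmap f (gi x)) (pullback.snd f (Qi x).hom) (pullback.snd f Q.hom) (U x).ι :=
    fun x => by
      refine IsPullback.of_right ?_ (XTmap_snd f (gi x)) (IsPullback.of_hasPullback f Q.hom)
      rw [XTmap_fst]
      exact IsPullback.of_hasPullback f (Qi x).hom
  haveI : ∀ x, IsOpenImmersion (PicF.XTmap f (gi x)) := fun x =>
    MorphismProperty.of_isPullback (sq x).flip inferInstance
  refine UnitDescent.eq_of_uP (fun x => PicF.XTmap f (gi x)) (fun z => ?_) fun x => ?_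
  · obtain ⟨w, hw, -⟩ := Scheme.exists_preimage_of_isPullback (sq (pullback.snd f Q.hom z)) z
      ⟨_, hxU (pullback.snd f Q.hom z)⟩ rfl
    exact ⟨_, w, hw⟩
  · rw [map_one]
    haveI : IsAffine (Qi x).left := hU x
    haveI : Flat (Qi x).hom := inferInstanceAs (Flat ((U x).ι ≫ Q.hom))
    have hb := bijective_appTop_affine f hf (Qi x).hom (hV x) fun z _ => hUV x z.2
    obtain ⟨d, hd⟩ := hb.2 (uP (PicF.XTmap f (gi x)) D : Γ(PicF.XT f (Qi x), ⊤)ˣ).val
    have h1 : uP (PicF.secT f σ hσ (Qi x)) (uP (PicF.XTmap f (gi x)) D) = 1 := by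
      rw [← uP_comp, secT_map, uP_comp, h, map_one]
    have hd1 : d = 1 := by
      have h2 : (PicF.secT f σ hσ (Qi x)).appTop.hom ((pullback.snd f (Qi x).hom).appTop.hom d) = 1 :=
        (congrArg _ hd).trans (congrArg Units.val h1)
      rw [← ConcreteCategory.comp_apply, ← Scheme.Hom.comp_appTop,
        show PicF.secT f σ hσ (Qi x) ≫ pullback.snd f (Qi x).hom = 𝟙 _ from pullback.lift_snd _ _ _] at h2
      simpa using h2
    exact Units.ext (hd.symm.trans (by rw [hd1, map_one]; rfl))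

include hσ hf in
/-- Compatible units on an open cover of a flat base change are trivial if they are so along the section. -/
theorem triv_of (Q : Over S) [Flat Q.hom] {I : Type u} (O : I → (PicF.XT f Q).Opens) (hO : ∀ p, ∃ i, p ∈ O i)
    (δ : ∀ i, Γ((O i).toScheme, ⊤)ˣ)
    (hδ : ∀ i j (W : Scheme.{u}) (m : W ⟶ (O i).toScheme) (m' : W ⟶ (O j).toScheme),
      m ≫ (O i).ι = m' ≫ (O j).ι → uP m (δ i) = uP m' (δ j))
    (hsec : ∀ i (W : Scheme.{u}) (y : W ⟶ Q.left) (m : W ⟶ (O i).toScheme),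
      m ≫ (O i).ι = y ≫ PicF.secT f σ hσ Q → uP m (δ i) = 1) (i : I) : δ i = 1 := by
  obtain ⟨D, hD⟩ := UnitDescent.exists_unit (fun i => (O i).ι)
    (fun p => let ⟨i, hi⟩ := hO p; ⟨i, ⟨p, hi⟩, rfl⟩) δ hδ
  rw [← hD i, eq_one_of_sec f σ hσ hf Q D (UnitDescent.eq_of_uP
    (fun i => ((PicF.secT f σ hσ Q) ⁻¹ᵁ O i).ι)
    (fun q => let ⟨i, hi⟩ := hO (PicF.secT f σ hσ Q q); ⟨i, ⟨q, hi⟩, rfl⟩) fun i => ?_), map_one]
  let y := ((PicF.secT f σ hσ Q) ⁻¹ᵁ O i).ι
  let m := lp (O i) (y ≫ PicF.secT f σ hσ Q) (fun z _ => z.2)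
  rw [map_one, ← uP_comp, ← lp_ι (O i) (y ≫ PicF.secT f σ hσ Q) (fun z _ => z.2), uP_comp, hD]
  exact hsec i _ y m (lp_ι _ _ _)

variable (T : Over S) {U : Scheme.{u}} (u : U ⟶ T.left)

/-- The triple cover. -/
abbrev R₃ : Over S :=
  Over.mk ((pullback.fst (pullback.fst u u ≫ u) u ≫ pullback.fst u u) ≫ u ≫ T.hom)

abbrev q₁ : R₃ T u ⟶ AbDual.ovr T u := Over.homMk (pullback.fst (pullback.fst u u ≫ u) u ≫ pullback.fst u u) rfl

abbrev q₂ : R₃ T u ⟶ AbDual.ovr T u := Over.homMk (pullback.fst (pullback.fst u u ≫ u) u ≫ pullback.snd u u) (by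
  show _ ≫ u ≫ T.hom = _ ≫ u ≫ T.hom
  rw [Category.assoc, Category.assoc, ← pullback.condition_assoc T.hom])

abbrev q₃ : R₃ T u ⟶ AbDual.ovr T u := Over.homMk (pullback.snd (pullback.fst u u ≫ u) u) (by
  show _ ≫ u ≫ T.hom = _ ≫ u ≫ T.hom
  rw [← pullback.condition_assoc T.hom, Category.assoc, Category.assoc])

variable {T u} {L : (PicF.XT f (AbDual.ovr T u)).Modules} (F : Frames L)

include hσ hf in
theorem exists_datum [Flat T.hom] [Flat u] (φ : (Scheme.Modules.pullback (PicF.XTmap f (r₁ T u))).obj L ≅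
      (Scheme.Modules.pullback (PicF.XTmap f (r₂ T u))).obj L)
    (θ : (Scheme.Modules.pullback (PicF.secT f σ hσ (AbDual.ovr T u))).obj L ≅ Coh.structureModule U) :
    Nonempty (Datum (v f T u) F) := by
  haveI : Flat (AbDual.ovr T u).hom := inferInstanceAs (Flat (u ≫ T.hom))
  haveI : Flat (R₃ T u).hom :=
    inferInstanceAs (Flat ((pullback.fst (pullback.fst u u ≫ u) u ≫ pullback.fst u u) ≫ u ≫ T.hom))
  obtain ⟨c, hc⟩ := exists_defect f σ hσ F φ θ
  refine ⟨⟨fun x₁ x₂ h a b h1 h2 => κn f F φ c h a b h1 h2,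
    fun y x₁ x₂ h a b h1 h2 => κn_nat f F φ c y h a b h1 h2, ?_, ?_⟩⟩
  · intro Z x₁ x₂ x₃ h₁₂ h₂₃ a b d h1 h2 h3
    let P := PicF.XT f (R₃ T u)
    let p₁ := PicF.XTmap f (q₁ T u)
    let p₂ := PicF.XTmap f (q₂ T u)
    let p₃ := PicF.XTmap f (q₃ T u)
    have e12 : p₁ ≫ v f T u = p₂ ≫ v f T u := by
      refine pullback.hom_ext ?_ ?_
      · simp only [p₁, p₂, Category.assoc, XTmap_fst]
      · simp only [p₁, p₂, Category.assoc, XTmap_snd, reassoc_of% (XTmap_snd f (q₁ T u)),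
          reassoc_of% (XTmap_snd f (q₂ T u))]
        exact congrArg (pullback.snd f _ ≫ ·) (by
          show (_ ≫ _) ≫ u = (_ ≫ _) ≫ u
          rw [Category.assoc, Category.assoc]
          exact congrArg (pullback.fst (pullback.fst u u ≫ u) u ≫ ·) pullback.condition)
    have e23 : p₂ ≫ v f T u = p₃ ≫ v f T u := by
      refine pullback.hom_ext ?_ ?_
      · simp only [p₂, p₃, Category.assoc, XTmap_fst]
      · simp only [p₂, p₃, Category.assoc, XTmap_snd, reassoc_of% (XTmap_snd f (q₂ T u)),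
          reassoc_of% (XTmap_snd f (q₃ T u))]
        exact congrArg (pullback.snd f _ ≫ ·) (by
          show (_ ≫ _) ≫ u = _ ≫ u
          rw [Category.assoc, ← pullback.condition (f := u) (g := u), pullback.condition]
          rfl)
    have hp : ∀ {W : Scheme.{u}} (m : W ⟶ P), (m ≫ p₁) ≫ v f T u = (m ≫ p₂) ≫ v f T u ∧
        (m ≫ p₂) ≫ v f T u = (m ≫ p₃) ≫ v f T u := fun m =>
      ⟨by rw [Category.assoc, Category.assoc, e12], by rw [Category.assoc, Category.assoc, e23]⟩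
    let jj : Z ⟶ P := pullback.lift (x₁ ≫ pullback.fst f _)
      (pullback.lift (pullback.lift (x₁ ≫ PicF.XTproj f _) (x₂ ≫ PicF.XTproj f _) (snd_eq f h₁₂))
        (x₃ ≫ PicF.XTproj f _) (by
          rw [pullback.lift_fst_assoc]
          exact snd_eq f (h₁₂.trans h₂₃))) (by
      rw [Category.assoc, pullback.condition]
      show _ = pullback.lift _ _ _ ≫ (_ ≫ _) ≫ u ≫ T.hom
      simp only [Category.assoc, pullback.lift_fst_assoc]
      rfl)
    have j1 : jj ≫ p₁ = x₁ := by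
      refine pullback.hom_ext ?_ ?_
      · rw [Category.assoc, XTmap_fst]; exact pullback.lift_fst _ _ _
      · rw [Category.assoc, XTmap_snd, pullback.lift_snd_assoc]
        exact (pullback.lift_fst_assoc _ _ _ _).trans (pullback.lift_fst _ _ _)
    have j2 : jj ≫ p₂ = x₂ := by
      refine pullback.hom_ext ?_ ?_
      · rw [Category.assoc, XTmap_fst]; exact (pullback.lift_fst _ _ _).trans (fst_eq f h₁₂)
      · rw [Category.assoc, XTmap_snd, pullback.lift_snd_assoc]
        exact (pullback.lift_fst_assoc _ _ _ _).trans (pullback.lift_snd _ _ _)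
    have j3 : jj ≫ p₃ = x₃ := by
      refine pullback.hom_ext ?_ ?_
      · rw [Category.assoc, XTmap_fst]; exact (pullback.lift_fst _ _ _).trans (fst_eq f (h₁₂.trans h₂₃))
      · rw [Category.assoc, XTmap_snd, pullback.lift_snd_assoc]
        exact pullback.lift_snd _ _ _
    let I := PicF.XT f (AbDual.ovr T u) × PicF.XT f (AbDual.ovr T u) × PicF.XT f (AbDual.ovr T u)
    let O : I → P.Opens := fun i => p₁ ⁻¹ᵁ F.U i.1 ⊓ p₂ ⁻¹ᵁ F.U i.2.1 ⊓ p₃ ⁻¹ᵁ F.U i.2.2
    let δ : ∀ i, Γ((O i).toScheme, ⊤)ˣ := fun i =>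
      κn f F φ c (hp (O i).ι).1 i.1 i.2.1 (fun z _ => z.2.1.1) (fun z _ => z.2.1.2) *
        κn f F φ c (hp (O i).ι).2 i.2.1 i.2.2 (fun z _ => z.2.1.2) (fun z _ => z.2.2) /
        κn f F φ c ((hp (O i).ι).1.trans (hp (O i).ι).2) i.1 i.2.2 (fun z _ => z.2.1.1) (fun z _ => z.2.2)
    have hone := triv_of f σ hσ hf (R₃ T u) O (fun p => ⟨(_, _, _), ⟨⟨F.mem _, F.mem _⟩, F.mem _⟩⟩) δ ?_ ?_
      (a, b, d)
    · have hl : (⊤ : Z.Opens) ≤ jj ⁻¹ᵁ O (a, b, d) := fun z _ =>
        ⟨⟨show (jj ≫ p₁) z ∈ F.U a by rw [j1]; exact h1 trivial,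
          show (jj ≫ p₂) z ∈ F.U b by rw [j2]; exact h2 trivial⟩,
          show (jj ≫ p₃) z ∈ F.U d by rw [j3]; exact h3 trivial⟩
      have := congrArg (uP (lp _ jj hl)) hone
      simp only [δ, map_one, map_div, map_mul, κn_nat] at this
      simp only [← Category.assoc, lp_ι, j1, j2, j3] at this
      exact div_eq_one.1 this
    · intro i i' W m m' e
      simp only [δ, map_div, map_mul, κn_nat]
      simp only [← Category.assoc, e]
      have k : ∀ {q : P ⟶ PicF.XT f (AbDual.ovr T u)} {O' : (PicF.XT f (AbDual.ovr T u)).Opens},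
          O i' ≤ q ⁻¹ᵁ O' → (⊤ : W.Opens) ≤ ((m' ≫ (O i').ι) ≫ q) ⁻¹ᵁ O' := fun hq z _ => hq (m' z).2
      have k' : ∀ {q : P ⟶ PicF.XT f (AbDual.ovr T u)} {O' : (PicF.XT f (AbDual.ovr T u)).Opens},
          O i ≤ q ⁻¹ᵁ O' → (⊤ : W.Opens) ≤ ((m' ≫ (O i').ι) ≫ q) ⁻¹ᵁ O' := fun hq z _ => by
        rw [← e]; exact hq (m z).2
      rw [κn_change f F φ c _ i.1 i'.1 i.2.1 i'.2.1 (k' (inf_le_left.trans inf_le_left))
          (k (inf_le_left.trans inf_le_left)) (k' (inf_le_left.trans inf_le_right)) (k (inf_le_left.trans inf_le_right)),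
        κn_change f F φ c _ i.2.1 i'.2.1 i.2.2 i'.2.2 (k' (inf_le_left.trans inf_le_right))
          (k (inf_le_left.trans inf_le_right)) (k' inf_le_right) (k inf_le_right),
        κn_change f F φ c _ i.1 i'.1 i.2.2 i'.2.2 (k' (inf_le_left.trans inf_le_left))
          (k (inf_le_left.trans inf_le_left)) (k' inf_le_right) (k inf_le_right),
        τ_symm F _ i'.2.1 i.2.1 (k (inf_le_left.trans inf_le_right)) (k' (inf_le_left.trans inf_le_right))]
      exact (alg_triple _ _ _ _ _ _).symm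
    · intro i W y m e
      simp only [δ, map_div, map_mul, κn_nat]
      have hs : ∀ q : R₃ T u ⟶ AbDual.ovr T u,
          m ≫ (O i).ι ≫ PicF.XTmap f q = (y ≫ q.left) ≫ PicF.secT f σ hσ (AbDual.ovr T u) := by
        intro q
        rw [reassoc_of% e, secT_map, Category.assoc]
      rw [κn_sec f σ hσ F φ θ hc _ _ (hs (q₁ T u)) (hs (q₂ T u)),
        κn_sec f σ hσ F φ θ hc _ _ (hs (q₂ T u)) (hs (q₃ T u)),
        κn_sec f σ hσ F φ θ hc _ _ (hs (q₁ T u)) (hs (q₃ T u)), div_mul_div_cancel, div_self']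
  · intro Z x a b h1 h2
    let P := PicF.XT f (AbDual.ovr T u)
    let p := PicF.XTmap f (𝟙 (AbDual.ovr T u))
    have hp1 : p = 𝟙 _ := by
      refine pullback.hom_ext ?_ ?_
      · exact (XTmap_fst f _).trans (Category.id_comp _).symm
      · exact (XTmap_snd f _).trans ((Category.comp_id _).trans (Category.id_comp _).symm)
    let I := PicF.XT f (AbDual.ovr T u) × PicF.XT f (AbDual.ovr T u)
    let O : I → P.Opens := fun i => p ⁻¹ᵁ F.U i.1 ⊓ p ⁻¹ᵁ F.U i.2
    let δ : ∀ i, Γ((O i).toScheme, ⊤)ˣ := fun i =>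
      κn f F φ c (rfl : ((O i).ι ≫ p) ≫ v f T u = _) i.1 i.2 (fun z _ => z.2.1) (fun z _ => z.2.2) *
        τ F ((O i).ι ≫ p) i.1 i.2 (fun z _ => z.2.1) (fun z _ => z.2.2)
    have hone := triv_of f σ hσ hf (AbDual.ovr T u) O (fun q => ⟨(_, _), ⟨F.mem _, F.mem _⟩⟩) δ ?_ ?_ (a, b)
    · have jp : x ≫ p = x := by rw [hp1]; exact Category.comp_id _
      have hl : (⊤ : Z.Opens) ≤ x ⁻¹ᵁ O (a, b) := fun z _ =>
        ⟨show (x ≫ p) z ∈ F.U a by rw [jp]; exact h1 trivial,
          show (x ≫ p) z ∈ F.U b by rw [jp]; exact h2 trivial⟩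
      have := congrArg (uP (lp _ x hl)) hone
      simp only [δ, map_one, map_mul, κn_nat, uP_τ] at this
      simp only [← Category.assoc, lp_ι, jp] at this
      rw [τ_symm F x a b h1 h2]
      exact eq_inv_of_mul_eq_one_left this
    · intro i i' W m m' e
      simp only [δ, map_mul, κn_nat, uP_τ]
      simp only [← Category.assoc, e]
      have k : ∀ {O' : (PicF.XT f (AbDual.ovr T u)).Opens},
          O i' ≤ p ⁻¹ᵁ O' → (⊤ : W.Opens) ≤ ((m' ≫ (O i').ι) ≫ p) ⁻¹ᵁ O' := fun hq z _ => hq (m' z).2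
      have k' : ∀ {O' : (PicF.XT f (AbDual.ovr T u)).Opens},
          O i ≤ p ⁻¹ᵁ O' → (⊤ : W.Opens) ≤ ((m' ≫ (O i').ι) ≫ p) ⁻¹ᵁ O' := fun hq z _ => by
        rw [← e]; exact hq (m z).2
      rw [κn_change f F φ c _ i.1 i'.1 i.2 i'.2 (k' inf_le_left) (k inf_le_left) (k' inf_le_right) (k inf_le_right),
        ← τ_trans F _ i.1 i'.1 i.2 (k' inf_le_left) (k inf_le_left) (k' inf_le_right),
        ← τ_trans F _ i'.1 i.2 i'.2 (k inf_le_left) (k' inf_le_right) (k inf_le_right),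
        τ_symm F _ i.2 i'.2 (k' inf_le_right) (k inf_le_right)]
      exact (alg_diag_compat _ _ _ _).symm
    · intro i W y m e
      simp only [δ, map_mul, κn_nat, uP_τ]
      have hs : m ≫ (O i).ι ≫ p =
          (y ≫ (𝟙 (AbDual.ovr T u) : AbDual.ovr T u ⟶ _).left) ≫ PicF.secT f σ hσ (AbDual.ovr T u) := by
        rw [reassoc_of% e, secT_map, Category.assoc]
      rw [κn_sec f σ hσ F φ θ hc _ _ hs hs]
      simp only [hs]
      rw [hp_change f σ hσ F θ _ i.1 i.2]
      exact (alg_diag _ 1 1 _ 1).1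

end Groth.Agent.FpqcPic.Datum
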