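import Groth.Agent.FppfPic.Ring
import Mathlib.AlgebraicGeometry.Morphisms.Flat

/-! A unit cocycle on a faithfully flat cover is Zariski locally a coboundary. -/

set_option autoImplicit false
set_option backward.isDefEq.respectTransparency false
set_option backward.isDefEq.respectTransparency.types false

universe u

open TensorProduct CategoryTheory AlgebraicGeometry CategoryTheory.Limits

namespace Groth.Agent.FpqcPic

open Groth.Agent.FppfPic

variable {A B : Type u} [CommRing A] [CommRing B] [Algebra A B]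

theorem exists_coboundary_away [Module.Flat A B]
    [Flat (Spec.map (CommRingCat.ofHom (algebraMap A B)))]
    [Surjective (Spec.map (CommRingCat.ofHom (algebraMap A B)))]
    (u : (B ⊗[A] B)ˣ) (hu : in12 A B u * in23 A B u = in13 A B u) (p : PrimeSpectrum A) :
    ∃ (f : A) (c : B), p ∈ PrimeSpectrum.basicOpen f ∧
      (u : B ⊗[A] B) * (c ⊗ₜ 1) = 1 ⊗ₜ c ∧
      ∀ x : PrimeSpectrum B, algebraMap A B f ∉ x.asIdeal → c ∉ x.asIdeal := by
  let g : Spec (CommRingCat.of B) ⟶ Spec (CommRingCat.of A) :=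
    Spec.map (CommRingCat.ofHom (algebraMap A B))
  obtain ⟨q, hq⟩ := g.surjective p
  obtain ⟨c, hc, hcq⟩ : ∃ c, (u : B ⊗[A] B) * (c ⊗ₜ 1) = 1 ⊗ₜ c ∧ c ∉ (q : PrimeSpectrum B).asIdeal := by
    by_contra hne
    push Not at hne
    exact (q : PrimeSpectrum B).isPrime.ne_top (top_le_iff.1
      ((span_twisted_eq_top u hu).ge.trans (Ideal.span_le.2 fun c hc => hne c hc)))
  have hsat : ∀ x y : Spec (CommRingCat.of B), g x = g y → c ∉ (y : PrimeSpectrum B).asIdeal →
      c ∉ (x : PrimeSpectrum B).asIdeal := fun x y hxy hy hcm => by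
    have hyx : g y = g x := hxy.symm
    obtain ⟨z, hzy, hzx⟩ := Scheme.Pullback.exists_preimage_pullback (f := g) (g := g) y x hyx
    let r : PrimeSpectrum (B ⊗[A] B) := (pullbackSpecIso A B B).hom z
    have hry : PrimeSpectrum.comap (Algebra.TensorProduct.includeLeftRingHom) r = y := by
      rw [← hzy]
      exact (Scheme.Hom.comp_apply _ _ z).symm.trans (congrArg (fun m : _ ⟶ Spec (CommRingCat.of B) => m z)
        (pullbackSpecIso_hom_fst A B B))
    have hrx : PrimeSpectrum.comap
        ((Algebra.TensorProduct.includeRight : B →ₐ[A] B ⊗[A] B).toRingHom) r = x := by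
      rw [← hzx]
      exact (Scheme.Hom.comp_apply _ _ z).symm.trans (congrArg (fun m : _ ⟶ Spec (CommRingCat.of B) => m z)
        (pullbackSpecIso_hom_snd A B B))
    have h2 : (1 : B) ⊗ₜ[A] c ∈ r.asIdeal := by
      have : c ∈ x.asIdeal := hcm
      rw [← hrx] at this
      exact this
    rw [← hc] at h2
    rcases r.isPrime.mem_or_mem h2 with h | h
    · exact r.isPrime.ne_top (Ideal.eq_top_of_isUnit_mem _ h u.isUnit)
    · refine hy ?_
      rw [← hry]
      exact h
  have hopen : IsOpen (g '' {x | c ∉ (x : PrimeSpectrum B).asIdeal}) := by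
    rw [← (Flat.isQuotientMap_of_surjective g).isOpen_preimage]
    rw [show g ⁻¹' (g '' {x | c ∉ (x : PrimeSpectrum B).asIdeal}) = {x | c ∉ (x : PrimeSpectrum B).asIdeal} from
      Set.ext fun x => ⟨fun ⟨y, hy, hyx⟩ => hsat x y hyx.symm hy, fun hx => ⟨x, hx, rfl⟩⟩]
    exact (PrimeSpectrum.basicOpen c).isOpen
  obtain ⟨_, ⟨f, rfl⟩, hpf, hfle⟩ :=
    PrimeSpectrum.isTopologicalBasis_basic_opens.exists_subset_of_mem_open
      (show p ∈ g '' {x | c ∉ (x : PrimeSpectrum B).asIdeal} from ⟨q, hcq, hq⟩) hopen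
  refine ⟨f, c, hpf, hc, fun x hfx => ?_⟩
  obtain ⟨y, hy, hyx⟩ := hfle (a := g x) hfx
  exact hsat x y hyx.symm hy

end Groth.Agent.FpqcPic
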