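import Groth.Agent.Lib.UnitDescent

/-!
Units descend along fpqc families.
-/

set_option autoImplicit false
set_option backward.isDefEq.respectTransparency false
set_option backward.isDefEq.respectTransparency.types false
set_option linter.style.haveILetI false

universe u

open CategoryTheory CategoryTheory.Limits AlgebraicGeometry TopologicalSpace Opposite CartesianMonoidalCategory
open scoped CategoryTheory.MonObj

noncomputable section

namespace Groth.Agent.FpqcPic

open Groth.Agent.UnitDescent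

variable {Y : Scheme.{u}}

/-- A finite jointly surjective flat family of quasi-compact morphisms is fpqc. -/
theorem mem_of_finite {I : Type u} [Finite I] {Q : I → Scheme.{u}} (g : ∀ i, Q i ⟶ Y) (hfl : ∀ i, Flat (g i))
    (hqc : ∀ i, QuasiCompact (g i)) (hcov : ∀ y : Y, ∃ i q, g i q = y) :
    Presieve.ofArrows Q g ∈ Scheme.fpqcPrecoverage Y := by
  let E : PreZeroHypercover.{u} Y := ⟨I, Q, g⟩
  haveI : QuasiCompactCover E := ⟨fun {U} hU => by
    haveI : Finite E.I₀ := ‹Finite I›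
    exact .of_finite_of_isSpectralMap (fun i => haveI := hqc i; (g i).isSpectralMap)
      (fun x _ => hcov x) U.2 hU.isCompact⟩
  exact ⟨Scheme.presieve₀_mem_qcPrecoverage_iff.2 ‹QuasiCompactCover E›,
    (Scheme.ofArrows_mem_precoverage_iff _).2 ⟨fun y => (hcov y).imp fun _ ⟨q, hq⟩ => ⟨q, hq⟩, hfl⟩⟩

/-- A quasi-compact flat surjection after an open covering of its source is fpqc. -/
theorem mem_of_cover {X : Scheme.{u}} (v : X ⟶ Y) [Flat v] [QuasiCompact v] [Surjective v] {I : Type u}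
    {Q : I → Scheme.{u}} (j : ∀ i, Q i ⟶ X) (hj : ∀ i, IsOpenImmersion (j i)) (hcov : ∀ x : X, ∃ i q, j i q = x) :
    Presieve.ofArrows Q (fun i => j i ≫ v) ∈ Scheme.fpqcPrecoverage Y := by
  let E : PreZeroHypercover.{u} Y := ⟨I, Q, fun i => j i ≫ v⟩
  haveI : QuasiCompactCover E := ⟨fun {U} hU => by
    obtain ⟨s, hs, V, hV, e⟩ := IsCompactOpenCovered.of_isOpenMap (f := fun i => (j i : Q i → X))
      (fun i => (j i).continuous) (fun i => haveI := hj i; (j i).isOpenEmbedding.isOpenMap)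
      (fun x _ => hcov x) (v ⁻¹ᵁ U).2 (v.isCompact_preimage hU.isCompact)
    refine ⟨s, hs, V, hV, ?_⟩
    show ⋃ i, ⋃ hi, (j i ≫ v : Q i ⟶ Y) '' (V i hi : Set (Q i)) = (U : Set Y)
    refine Eq.trans ?_ (Set.image_preimage_eq (U : Set Y) v.surjective)
    rw [show (v : X → Y) ⁻¹' (U : Set Y) = ((v ⁻¹ᵁ U : X.Opens) : Set X) from rfl,
      show ((v ⁻¹ᵁ U : X.Opens) : Set X) = _ from e.symm, Set.image_iUnion₂]
    simp only [Scheme.Hom.comp_base, TopCat.coe_comp, Set.image_comp]⟩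
  exact ⟨Scheme.presieve₀_mem_qcPrecoverage_iff.2 ‹QuasiCompactCover E›,
    (Scheme.ofArrows_mem_precoverage_iff _).2 ⟨fun y => by
      obtain ⟨x, rfl⟩ := v.surjective y
      obtain ⟨i, q, rfl⟩ := hcov x
      exact ⟨i, q, rfl⟩, fun i => haveI := hj i; inferInstance⟩⟩

variable {I : Type u} {Q : I → Scheme.{u}} (g : ∀ i, Q i ⟶ Y)
  (hmem : Presieve.ofArrows Q g ∈ Scheme.fpqcPrecoverage Y)

include hmem

theorem hom_ext {K : Scheme.{u}} {a b : Y ⟶ K} (h : ∀ i, g i ≫ a = g i ≫ b) : a = b :=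
  ((GrothendieckTopology.Subcanonical.isSheaf_of_isRepresentable
    (J := Scheme.fpqcTopology) (yoneda.obj K)).isSheafFor _
      (Precoverage.generate_mem_toGrothendieck hmem)).isSeparatedFor.ext fun _ v hv => by
    obtain ⟨i⟩ := hv
    exact h i

/-- Units agreeing on an fpqc family are equal. -/
theorem eq_of_uP {s t : Γ(Y, ⊤)ˣ} (h : ∀ i, uP (g i) s = uP (g i) t) : s = t := by
  refine (GmPts.equiv (S := Y) (Over.mk (𝟙 Y))).symm.injective (Over.OverMorphism.ext (hom_ext g hmem fun i => ?_))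
  let a : Over.mk (g i) ⟶ Over.mk (𝟙 Y) := Over.homMk (g i) (Category.comp_id _)
  exact congrArg CommaMorphism.left (show a ≫ GmPts.ptOfUnit s = a ≫ GmPts.ptOfUnit t from
    (GmPts.equiv (S := Y) (Over.mk (g i))).injective (by
      show GmPts.unitOfPt _ = GmPts.unitOfPt _
      rw [GmPts.unitOfPt_comp, GmPts.unitOfPt_comp, GmPts.unitOfPt_ptOfUnit, GmPts.unitOfPt_ptOfUnit]
      exact h i))

/-- Compatible units on an fpqc family descend. -/
theorem exists_unit (r : ∀ i, Γ(Q i, ⊤)ˣ)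
    (hr : ∀ i j (W : Scheme.{u}) (a : W ⟶ Q i) (b : W ⟶ Q j), a ≫ g i = b ≫ g j → uP a (r i) = uP b (r j)) :
    ∃ s : Γ(Y, ⊤)ˣ, ∀ i, uP (g i) s = r i := by
  let K := Red.Gm Y
  let p : ∀ i, Over.mk (g i) ⟶ K := fun i => GmPts.ptOfUnit (r i)
  obtain ⟨z, hz, -⟩ := (Presieve.isSheafFor_arrows_iff (yoneda.obj K.left) g).1
    (((GrothendieckTopology.Subcanonical.isSheaf_of_isRepresentable
      (J := Scheme.fpqcTopology) (yoneda.obj K.left)).isSheafFor _
        (Precoverage.generate_mem_toGrothendieck hmem))) (fun i => (p i).left) fun i j W a b hab => by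
    let ā : Over.mk (a ≫ g i) ⟶ Over.mk (g i) := Over.homMk a
    let b' : Over.mk (a ≫ g i) ⟶ Over.mk (g j) := Over.homMk b hab.symm
    exact congrArg CommaMorphism.left (show ā ≫ p i = b' ≫ p j from
      (GmPts.equiv (S := Y) (Over.mk (a ≫ g i))).injective (by
        show GmPts.unitOfPt _ = GmPts.unitOfPt _
        rw [GmPts.unitOfPt_comp, GmPts.unitOfPt_comp, GmPts.unitOfPt_ptOfUnit, GmPts.unitOfPt_ptOfUnit]
        exact hr i j W a b hab))
  let t : Over.mk (𝟙 Y) ⟶ K := Over.homMk z (hom_ext g hmem fun i => by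
    rw [← Category.assoc]
    show (g i ≫ z) ≫ K.hom = g i ≫ 𝟙 Y
    rw [show g i ≫ z = (p i).left from hz i, Over.w (p i)]
    exact (Category.comp_id _).symm)
  refine ⟨GmPts.unitOfPt t, fun i => ?_⟩
  let a : Over.mk (g i) ⟶ Over.mk (𝟙 Y) := Over.homMk (g i) (Category.comp_id _)
  have h : a ≫ t = p i := Over.OverMorphism.ext (hz i)
  calc uP (g i) (GmPts.unitOfPt t) = GmPts.unitOfPt (a ≫ t) := (GmPts.unitOfPt_comp a t).symm
    _ = r i := by rw [h]; exact GmPts.unitOfPt_ptOfUnit _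

end Groth.Agent.FpqcPic
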