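import Groth.Agent.Lib.RigDescent
import Groth.Agent.FpqcPic.Unit
import Groth.Agent.FpqcPic.Ring

/-!
Descent of an invertible module along a flat quasi-compact surjection from a cocycle in frames.
-/

set_option autoImplicit false
set_option linter.unusedSectionVars false
set_option linter.style.haveILetI false
set_option backward.isDefEq.respectTransparency false
set_option backward.isDefEq.respectTransparency.types false
set_option maxHeartbeats 800000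

universe u

open CategoryTheory CategoryTheory.Limits AlgebraicGeometry TopologicalSpace Opposite TensorProduct

noncomputable section

namespace Groth.Agent.FpqcPic.Descent

open Groth.Agent.AModX Groth.Agent.InvX Groth.Agent.UnitDescent Groth.Agent.FramesTrans Groth.Agent.RigDatum
open Groth.Agent.RigDescent (Triv κ_congr exists_ev_eq ev_lp ev_ι_injective
  nonempty_iso_of_main)

section Ring

variable {A B : CommRingCat.{u}} (g : Spec B ⟶ Spec A) [Flat g] [Surjective g]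

/-- A unit cocycle on an affine cover is Zariski locally a coboundary. -/
theorem exists_gamma (u : Γ(pullback g g, ⊤)ˣ)
    (hu : ∀ {Z : Scheme.{u}} (y₁ y₂ y₃ : Z ⟶ Spec B) (h₁₂ : y₁ ≫ g = y₂ ≫ g) (h₂₃ : y₂ ≫ g = y₃ ≫ g),
      uP (pullback.lift y₁ y₂ h₁₂) u * uP (pullback.lift y₂ y₃ h₂₃) u =
        uP (pullback.lift y₁ y₃ (h₁₂.trans h₂₃)) u)
    (p : Spec A) :
    ∃ (D : (Spec A).Opens) (_ : p ∈ D) (_ : IsAffineOpen D) (γ : Γ((g ⁻¹ᵁ D).toScheme, ⊤)ˣ),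
      ∀ {Z : Scheme.{u}} (z₁ z₂ : Z ⟶ (g ⁻¹ᵁ D).toScheme)
        (h : (z₁ ≫ (g ⁻¹ᵁ D).ι) ≫ g = (z₂ ≫ (g ⁻¹ᵁ D).ι) ≫ g),
        uP z₁ γ * uP (pullback.lift _ _ h) u = uP z₂ γ := by
  obtain ⟨φ, rfl⟩ : ∃ φ, Spec.map φ = g := ⟨_, Spec.map_preimage g⟩
  algebraize [φ.hom]
  have hflat : Module.Flat A B := (HasRingHomProperty.Spec_iff (P := @Flat)).1 (inferInstance : Flat (Spec.map φ))
  haveI : Flat (Spec.map (CommRingCat.ofHom (algebraMap A B))) := ‹Flat (Spec.map φ)›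
  haveI : Surjective (Spec.map (CommRingCat.ofHom (algebraMap A B))) := ‹Surjective (Spec.map φ)›
  let ψ : Spec (CommRingCat.of ((B : Type u) ⊗[A] B)) ⟶ pullback (Spec.map φ) (Spec.map φ) :=
    (pullbackSpecIso A B B).inv
  let u' : ((B : Type u) ⊗[A] B)ˣ :=
    Units.map (Scheme.ΓSpecIso (CommRingCat.of ((B : Type u) ⊗[A] B))).hom.hom.toMonoidHom (uP ψ u)
  -- transfer of the cocycle identity
  have tr : ∀ (i : (B : Type u) ⊗[A] B →ₐ[A] (B : Type u) ⊗[A] ((B : Type u) ⊗[A] B)),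
      (i u' : (B : Type u) ⊗[A] ((B : Type u) ⊗[A] B)) =
        (Scheme.ΓSpecIso (CommRingCat.of ((B : Type u) ⊗[A] ((B : Type u) ⊗[A] B)))).hom
        (uP (Spec.map (CommRingCat.ofHom i.toRingHom) ≫ ψ) u).val := fun i => by
    rw [uP_comp]
    exact (ConcreteCategory.congr_hom (Scheme.ΓSpecIso_naturality (CommRingCat.ofHom i.toRingHom))
      (uP ψ u).val).symm
  let j₁ : (B : Type u) →ₐ[A] (B : Type u) ⊗[A] ((B : Type u) ⊗[A] B) := Algebra.TensorProduct.includeLeft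
  let j₂ : (B : Type u) →ₐ[A] (B : Type u) ⊗[A] ((B : Type u) ⊗[A] B) :=
    Algebra.TensorProduct.includeRight.comp Algebra.TensorProduct.includeLeft
  let j₃ : (B : Type u) →ₐ[A] (B : Type u) ⊗[A] ((B : Type u) ⊗[A] B) :=
    Algebra.TensorProduct.includeRight.comp Algebra.TensorProduct.includeRight
  let y : ((B : Type u) →ₐ[A] (B : Type u) ⊗[A] ((B : Type u) ⊗[A] B)) →
      (Spec (CommRingCat.of ((B : Type u) ⊗[A] ((B : Type u) ⊗[A] B))) ⟶ Spec B) :=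
    fun j => Spec.map (CommRingCat.ofHom j.toRingHom)
  have hy : ∀ j, y j ≫ Spec.map φ =
      Spec.map (CommRingCat.ofHom (algebraMap A ((B : Type u) ⊗[A] ((B : Type u) ⊗[A] B)))) := fun j => by
    show Spec.map _ ≫ Spec.map _ = _
    rw [← Spec.map_comp]
    exact congrArg Spec.map (CommRingCat.hom_ext j.comp_algebraMap)
  have lift_eq : ∀ (i : (B : Type u) ⊗[A] B →ₐ[A] (B : Type u) ⊗[A] ((B : Type u) ⊗[A] B)) (j k : _)
      (h1 : i.comp Algebra.TensorProduct.includeLeft = j) (h2 : i.comp Algebra.TensorProduct.includeRight = k),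
      Spec.map (CommRingCat.ofHom i.toRingHom) ≫ ψ =
        pullback.lift (y j) (y k) ((hy j).trans (hy k).symm) := by
    intro i j k h1 h2
    subst h1 h2
    refine pullback.hom_ext ?_ ?_
    · rw [Category.assoc, pullback.lift_fst]
      refine (congrArg (Spec.map _ ≫ ·) (pullbackSpecIso_inv_fst A B B)).trans ?_
      exact (Spec.map_comp _ _).symm
    · rw [Category.assoc, pullback.lift_snd]
      refine (congrArg (Spec.map _ ≫ ·) (pullbackSpecIso_inv_snd A B B)).trans ?_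
      exact (Spec.map_comp _ _).symm
  obtain ⟨f, c, hpf, hc, hcu⟩ := FpqcPic.exists_coboundary_away u' (by
    rw [tr, tr, tr, lift_eq (FppfPic.in12 A B) j₁ j₂ (by ext b; simp [j₁]) (by ext b; simp [j₂]),
      lift_eq (FppfPic.in23 A B) j₂ j₃ rfl rfl,
      lift_eq (FppfPic.in13 A B) j₁ j₃ (by ext b; simp [j₁]) (by ext b; simp [j₃]), ← map_mul, ← Units.val_mul,
      hu (y j₁) (y j₂) (y j₃) ((hy j₁).trans (hy j₂).symm) ((hy j₂).trans (hy j₃).symm)]) p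
  let D : (Spec A).Opens := PrimeSpectrum.basicOpen f
  let P : (Spec B).Opens := Spec.map φ ⁻¹ᵁ D
  let sc : Γ(Spec B, ⊤) := (Scheme.ΓSpecIso B).inv c
  have hunit : IsUnit (P.ι.appTop sc) := by
    refine RingedSpace.isUnit_of_isUnit_germ (P : Scheme.{u}).toLocallyRingedSpace.toRingedSpace ⊤ _
      fun q _ => ?_
    refine (Scheme.mem_basicOpen_top (X := (P : Scheme.{u})) _ q).1 ?_
    rw [← Scheme.preimage_basicOpen_top]
    show P.ι q ∈ (Spec B).basicOpen sc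
    rw [show (Spec B).basicOpen sc = PrimeSpectrum.basicOpen c from basicOpen_eq_of_affine c]
    exact hcu (P.ι q) q.2
  refine ⟨D, hpf, (by
    have := (isAffineOpen_top (Spec A)).basicOpen ((Scheme.ΓSpecIso A).inv f)
    rwa [basicOpen_eq_of_affine] at this), hunit.unit, fun {Z} z₁ z₂ h => Units.ext ?_⟩
  let m : Z ⟶ Spec (CommRingCat.of ((B : Type u) ⊗[A] B)) :=
    pullback.lift _ _ h ≫ (pullbackSpecIso A B B).hom
  have hm : m ≫ ψ = pullback.lift _ _ h := by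
    show (_ ≫ _) ≫ (pullbackSpecIso A B B).inv = _
    rw [Category.assoc, Iso.hom_inv_id, Category.comp_id]
  have h1 : m ≫ Spec.map (CommRingCat.ofHom (Algebra.TensorProduct.includeLeft :
      (B : Type u) →ₐ[A] (B : Type u) ⊗[A] B).toRingHom) = z₁ ≫ P.ι := by
    show (_ ≫ _) ≫ _ = _
    rw [Category.assoc]
    exact (congrArg (pullback.lift _ _ h ≫ ·) (pullbackSpecIso_hom_fst A B B)).trans (pullback.lift_fst _ _ _)
  have h2 : m ≫ Spec.map (CommRingCat.ofHom (Algebra.TensorProduct.includeRight :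
      (B : Type u) →ₐ[A] (B : Type u) ⊗[A] B).toRingHom) = z₂ ≫ P.ι := by
    show (_ ≫ _) ≫ _ = _
    rw [Category.assoc]
    exact (congrArg (pullback.lift _ _ h ≫ ·) (pullbackSpecIso_hom_snd A B B)).trans (pullback.lift_snd _ _ _)
  let Γi := (Scheme.ΓSpecIso (CommRingCat.of ((B : Type u) ⊗[A] B))).inv
  have e : ∀ (i : (B : Type u) →ₐ[A] (B : Type u) ⊗[A] B) (z : Z ⟶ P.toScheme),
      m ≫ Spec.map (CommRingCat.ofHom i.toRingHom) = z ≫ P.ι →
      z.appTop (P.ι.appTop sc) = m.appTop (Γi (i c)) := by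
    intro i z hz
    rw [← GmPts.appTop_comp_apply, ← hz, GmPts.appTop_comp_apply]
    exact congrArg m.appTop (ConcreteCategory.congr_hom
      (Scheme.ΓSpecIso_inv_naturality (CommRingCat.ofHom i.toRingHom)) c).symm
  have hl : ((uP (pullback.lift _ _ h) u : Γ(Z, ⊤)ˣ) : Γ(Z, ⊤)) = m.appTop (Γi (u' : (B : Type u) ⊗[A] B)) := by
    rw [← hm, uP_comp]
    exact congrArg m.appTop (ConcreteCategory.congr_hom
      (Scheme.ΓSpecIso (CommRingCat.of ((B : Type u) ⊗[A] B))).hom_inv_id _).symm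
  show z₁.appTop hunit.unit.val * _ = z₂.appTop hunit.unit.val
  rw [IsUnit.unit_spec, hl, e _ z₁ h1, e _ z₂ h2, ← map_mul, ← map_mul]
  exact congrArg (fun z => m.appTop (Γi z)) ((mul_comm _ _).trans hc)

end Ring

section Local

variable {X Y : Scheme.{u}} {v : X ⟶ Y} {L : X.Modules} {F : Frames L} (D : Datum v F)

/-- Base change of a quasi-compact map into an open. -/
theorem quasiCompact_fst {A B : Scheme.{u}} (a : A ⟶ Y) (b : B ⟶ Y) {V : Y.Opens}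
    (ha : (⊤ : A.Opens) ≤ a ⁻¹ᵁ V) (hb : (⊤ : B.Opens) ≤ b ⁻¹ᵁ V) (hqc : QuasiCompact (lp V b hb)) :
    QuasiCompact (pullback.fst a b) := by
  have sq : IsPullback (pullback.fst a b) (pullback.snd a b) (lp V a ha) (lp V b hb) := by
    refine ⟨⟨(cancel_mono V.ι).1 (by rw [Category.assoc, Category.assoc, lp_ι, lp_ι]; exact pullback.condition)⟩,
      ⟨PullbackCone.IsLimit.mk _ (fun s => pullback.lift s.fst s.snd ?_) (fun s => pullback.lift_fst _ _ _)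
        (fun s => pullback.lift_snd _ _ _) (fun s m h1 h2 => pullback.hom_ext (by rw [h1, pullback.lift_fst])
          (by rw [h2, pullback.lift_snd]))⟩⟩
    simpa only [Category.assoc, lp_ι] using congrArg (· ≫ V.ι) s.condition
  exact MorphismProperty.of_isPullback sq.flip hqc

/-- The covering of an open by pieces over it is fpqc. -/
theorem mem_restrict [Flat v] [QuasiCompact v] [Surjective v] {W : Y.Opens} {J : Type u} (O : J → X.Opens)
    (hO : ∀ a, O a ≤ v ⁻¹ᵁ W) (hcov : ∀ x, x ∈ v ⁻¹ᵁ W → ∃ a, x ∈ O a) :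
    Presieve.ofArrows (fun a => (O a).toScheme) (fun a => X.homOfLE (hO a) ≫ (v ∣_ W)) ∈
      Scheme.fpqcPrecoverage W.toScheme := by
  haveI : QuasiCompact (v ∣_ W) := MorphismProperty.of_isPullback (isPullback_morphismRestrict v W).flip ‹QuasiCompact v›
  haveI : Surjective (v ∣_ W) := MorphismProperty.of_isPullback (isPullback_morphismRestrict v W).flip ‹Surjective v›
  refine mem_of_cover (v ∣_ W) (fun a => X.homOfLE (hO a)) (fun a => inferInstance) fun x => ?_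
  obtain ⟨a, ha⟩ := hcov x.1 x.2
  exact ⟨a, ⟨x.1, ha⟩, (v ⁻¹ᵁ W).ι.isOpenEmbedding.injective (by rw [← Scheme.Hom.comp_apply, Scheme.homOfLE_ι]; rfl)⟩

variable [Flat v]

/-- A solution from one on covering pieces. -/
theorem exists_triv_of_pieces {V : Y.Opens} {I : Type u} [Finite I] (P : I → X.Opens) (k : I → X) (hP : ∀ i, P i ≤ F.U (k i))
    (hPV : ∀ i, P i ≤ v ⁻¹ᵁ V)
    (hqc : ∀ i, QuasiCompact (lp V ((P i).ι ≫ v) (fun z _ => hPV i z.2))) (hcov : ∀ y ∈ V, ∃ i, ∃ x ∈ P i, v x = y) (γ : ∀ i, Γ((P i).toScheme, ⊤)ˣ)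
    (hγ : ∀ (i j : I) {Z : Scheme.{u}} (z₁ : Z ⟶ (P i).toScheme) (z₂ : Z ⟶ (P j).toScheme)
      (h : (z₁ ≫ (P i).ι) ≫ v = (z₂ ≫ (P j).ι) ≫ v),
      uP z₁ (γ i) * D.κ _ _ h (k i) (k j) (fun z _ => hP i (z₁ z).2) (fun z _ => hP j (z₂ z).2) = uP z₂ (γ j)) :
    Nonempty (Triv D V) := by
  let W : X → X.Opens := fun a => F.U a ⊓ v ⁻¹ᵁ V
  let q : ∀ (a : X) (i : I), pullback ((W a).ι ≫ v) ((P i).ι ≫ v) ⟶ (W a).toScheme := fun a i => pullback.fst _ _
  have hs : ∀ (a : X) (w : (W a).toScheme), ∃ i z, q a i z = w := fun a w => by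
    obtain ⟨i, x, hx, e⟩ := hcov (v w.1) w.2.2
    obtain ⟨z, hz, -⟩ := Scheme.Pullback.exists_preimage_pullback (f := (W a).ι ≫ v) (g := (P i).ι ≫ v) w ⟨x, hx⟩
      (by simpa using e.symm)
    exact ⟨i, z, hz⟩
  let r : ∀ (a : X) (i : I), Γ(pullback ((W a).ι ≫ v) ((P i).ι ≫ v), ⊤)ˣ := fun a i =>
    uP (pullback.snd _ _) (γ i) * D.κ (pullback.snd _ _ ≫ (P i).ι) (pullback.fst _ _ ≫ (W a).ι)
      (by rw [Category.assoc, Category.assoc, pullback.condition]) (k i) a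
      (fun z _ => hP i ((pullback.snd ((W a).ι ≫ v) ((P i).ι ≫ v)) z).2)
      (fun z _ => ((pullback.fst ((W a).ι ≫ v) ((P i).ι ≫ v)) z).2.1)
  have hr : ∀ (a : X), ∀ i j (Z : Scheme.{u}) (m : Z ⟶ _) (m' : Z ⟶ _), m ≫ q a i = m' ≫ q a j →
      uP m (r a i) = uP m' (r a j) := fun a i j Z m m' e => by
    simp only [r, map_mul, D.nat, ← uP_comp]
    have h1 : ((m ≫ pullback.snd _ _) ≫ (P i).ι) ≫ v = ((m' ≫ pullback.snd _ _) ≫ (P j).ι) ≫ v := by
      simp only [Category.assoc, ← pullback.condition]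
      exact (reassoc_of% e) _
    rw [← hγ i j (m ≫ pullback.snd _ _) (m' ≫ pullback.snd _ _) h1, mul_assoc]
    congr 1
    have e' : m' ≫ pullback.fst _ _ ≫ (W a).ι = m ≫ pullback.fst _ _ ≫ (W a).ι := ((reassoc_of% e) (W a).ι).symm
    simp only [Category.assoc, e']
    rw [D.cocycle]
  choose s hs' using fun a => FpqcPic.exists_unit (q a) (mem_of_finite (q a) (fun i => inferInstanceAs (Flat (pullback.fst _ _)))
    (fun i => quasiCompact_fst ((W a).ι ≫ v) ((P i).ι ≫ v) (fun z _ => z.2.2) (fun z _ => hPV i z.2) (hqc i)) (hs a)) (r a) (hr a)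
  choose β hβ using fun a => exists_ev_eq (s a)
  refine ⟨⟨β, fun {Z} x₁ x₂ h a b ha hb hv => ?_⟩⟩
  have hW₁ : (⊤ : Z.Opens) ≤ x₁ ⁻¹ᵁ W a := fun _ _ => ⟨ha trivial, hv trivial⟩
  have hW₂ : (⊤ : Z.Opens) ≤ x₂ ⁻¹ᵁ W b := fun z _ =>
    ⟨hb trivial, show (x₂ ≫ v) z ∈ V by rw [← h]; exact hv trivial⟩
  refine FpqcPic.eq_of_uP (fun i => pullback.fst (x₁ ≫ v) ((P i).ι ≫ v)) (mem_of_finite _
    (fun i => inferInstance) (fun i => quasiCompact_fst (x₁ ≫ v) ((P i).ι ≫ v) hv (fun z _ => hPV i z.2) (hqc i))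
    fun z => ?_) fun i => ?_
  · obtain ⟨i, x, hx, e⟩ := hcov ((x₁ ≫ v) z) (hv trivial)
    obtain ⟨z', hz, -⟩ := Scheme.Pullback.exists_preimage_pullback (f := x₁ ≫ v) (g := (P i).ι ≫ v) z ⟨x, hx⟩
      (by simpa using e.symm)
    exact ⟨i, z', hz⟩
  · let p := pullback.fst (x₁ ≫ v) ((P i).ι ≫ v)
    let z := pullback.snd (x₁ ≫ v) ((P i).ι ≫ v)
    have key : ∀ (c : X) (x : Z ⟶ X) (hW : (⊤ : Z.Opens) ≤ x ⁻¹ᵁ W c) (hx : x ≫ v = x₁ ≫ v),
        uP p (ev x hW (β c)) = uP z (γ i) * D.κ (z ≫ (P i).ι) (p ≫ x)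
          (by rw [Category.assoc, Category.assoc, hx]; exact pullback.condition.symm) (k i) c
          (fun w _ => hP i (z w).2) (fun w _ => (hW (x := p w) trivial).1) := by
      intro c x hW hx
      let m : pullback (x₁ ≫ v) ((P i).ι ≫ v) ⟶ pullback ((W c).ι ≫ v) ((P i).ι ≫ v) :=
        pullback.lift (p ≫ lp (W c) x hW) z (by
          rw [Category.assoc, reassoc_of% lp_ι (W c) x hW, hx]; exact pullback.condition)
      have em : m ≫ q c i = p ≫ lp (W c) x hW := pullback.lift_fst _ _ _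
      rw [ev_lp, hβ, ← uP_comp, ← em, uP_comp, hs']
      simp only [r, map_mul, D.nat, ← uP_comp, m, pullback.lift_snd]
      congr 1
      exact κ_congr D (by rw [pullback.lift_snd_assoc]) (by rw [pullback.lift_fst_assoc, Category.assoc, lp_ι]) _ _ _ _ _
    rw [map_mul, key a x₁ hW₁ rfl, key b x₂ hW₂ h.symm, D.nat, mul_assoc, D.cocycle]

section Affine

variable (V₀ : Y.Opens) [IsAffine V₀.toScheme] {I : Type u} [Finite I] (P : I → X.Opens)
  [∀ i, IsAffine (P i).toScheme] (hPV : ∀ i, P i ≤ v ⁻¹ᵁ V₀)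

/-- The coproduct of the pieces. -/
abbrev Qs : Scheme.{u} := ∐ fun i : I => (P i).toScheme

/-- A piece over the open. -/
def piece (i : I) : (P i).toScheme ⟶ V₀.toScheme := X.homOfLE (hPV i) ≫ (v ∣_ V₀)

theorem piece_ι (i : I) : piece V₀ P hPV i ≫ V₀.ι = (P i).ι ≫ v := by
  rw [piece, Category.assoc, morphismRestrict_ι, Scheme.homOfLE_ι_assoc]

/-- A piece in the affine cover. -/
def emb (i : I) : (P i).toScheme ⟶ Spec Γ(Qs P, ⊤) := Sigma.ι (fun i : I => (P i).toScheme) i ≫ (Qs P).isoSpec.hom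

instance (i : I) : IsOpenImmersion (emb P i) := by unfold emb; infer_instance

/-- The affine cover. -/
def gAff : Spec Γ(Qs P, ⊤) ⟶ Spec Γ(V₀.toScheme, ⊤) :=
  (Qs P).isoSpec.inv ≫ Sigma.desc (piece V₀ P hPV) ≫ V₀.toScheme.isoSpec.hom

theorem emb_g (i : I) : emb P i ≫ gAff V₀ P hPV = piece V₀ P hPV i ≫ V₀.toScheme.isoSpec.hom := by
  rw [emb, gAff, Category.assoc, Iso.hom_inv_id_assoc]
  exact Sigma.ι_desc_assoc _ _ _

theorem emb_cover (q : Spec Γ(Qs P, ⊤)) : ∃ i x, emb P i x = q := by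
  obtain ⟨i, x, hx⟩ := (sigmaOpenCover fun i : I => (P i).toScheme).exists_eq ((Qs P).isoSpec.inv q)
  refine ⟨i, x, ?_⟩
  show (Qs P).isoSpec.hom (Sigma.ι (fun i : I => (P i).toScheme) i x) = q
  erw [hx]
  exact Scheme.inv_hom_apply (Qs P).isoSpec q

theorem emb_disjoint {Z : Scheme.{u}} {i j : I} (a : Z ⟶ (P i).toScheme) (b : Z ⟶ (P j).toScheme)
    (e : a ≫ emb P i = b ≫ emb P j) (hij : i ≠ j) : IsEmpty Z := by
  refine isEmpty_of_commSq_sigmaι_of_ne (g := fun i : I => (P i).toScheme) (a := a) (b := b)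
    ⟨(cancel_mono (Qs P).isoSpec.hom).1 ?_⟩ hij
  rw [Category.assoc, Category.assoc]
  exact e

include hPV in
theorem over_base {Z : Scheme.{u}} {i j : I} (a : Z ⟶ (P i).toScheme) (b : Z ⟶ (P j).toScheme)
    (e : (a ≫ emb P i) ≫ gAff V₀ P hPV = (b ≫ emb P j) ≫ gAff V₀ P hPV) :
    (a ≫ (P i).ι) ≫ v = (b ≫ (P j).ι) ≫ v := by
  rw [Category.assoc, Category.assoc, emb_g, emb_g, ← Category.assoc, ← Category.assoc, cancel_mono] at e
  rw [Category.assoc, Category.assoc, ← piece_ι V₀ P hPV i, ← piece_ι V₀ P hPV j]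
  exact (reassoc_of% e) _

include hPV in
theorem quasiCompact_piece {V₁ : V₀.toScheme.Opens} (hV₁ : IsAffineOpen V₁) (i : I) :
    QuasiCompact (lp (V₀.ι ''ᵁ V₁) ((P i ⊓ v ⁻¹ᵁ (V₀.ι ''ᵁ V₁)).ι ≫ v) (fun z _ => z.2.2)) := by
  let p := piece V₀ P hPV i
  haveI : IsAffineHom p := isAffineHom_of_isAffine _
  have hA : IsAffineOpen ((P i).ι ''ᵁ (p ⁻¹ᵁ V₁)) := (hV₁.preimage p).image_of_isOpenImmersion _
  have e : (P i).ι ''ᵁ (p ⁻¹ᵁ V₁) = P i ⊓ v ⁻¹ᵁ (V₀.ι ''ᵁ V₁) := by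
    ext x
    constructor
    · rintro ⟨y, hy, rfl⟩
      refine ⟨y.2, ⟨p y, hy, ?_⟩⟩
      show (piece V₀ P hPV i ≫ V₀.ι) y = _
      rw [piece_ι]
      rfl
    · rintro ⟨hx, w, hw, e⟩
      refine ⟨⟨x, hx⟩, ?_, rfl⟩
      show p ⟨x, hx⟩ ∈ V₁
      rw [show p ⟨x, hx⟩ = w from V₀.ι.isOpenEmbedding.injective (by
        show (piece V₀ P hPV i ≫ V₀.ι) ⟨x, hx⟩ = _
        rw [piece_ι]; exact e.symm)]
      exact hw
  rw [e] at hA
  haveI : IsAffine (P i ⊓ v ⁻¹ᵁ (V₀.ι ''ᵁ V₁)).toScheme := hA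
  haveI : IsAffine (V₀.ι ''ᵁ V₁).toScheme := hV₁.image_of_isOpenImmersion V₀.ι
  haveI := isAffineHom_of_isAffine (lp (V₀.ι ''ᵁ V₁) ((P i ⊓ v ⁻¹ᵁ (V₀.ι ''ᵁ V₁)).ι ≫ v) (fun z _ => z.2.2))
  infer_instance

theorem exists_cocycle (k : I → X) (hk : ∀ i, P i ≤ F.U (k i)) :
    ∃ u : Γ(pullback (gAff V₀ P hPV) (gAff V₀ P hPV), ⊤)ˣ,
      ∀ {Z : Scheme.{u}} (i j : I) (a : Z ⟶ (P i).toScheme) (b : Z ⟶ (P j).toScheme)
        (h : (a ≫ emb P i) ≫ gAff V₀ P hPV = (b ≫ emb P j) ≫ gAff V₀ P hPV),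
        uP (pullback.lift _ _ h) u = D.κ (a ≫ (P i).ι) (b ≫ (P j).ι) (over_base V₀ P hPV a b h) (k i) (k j)
          (fun z _ => hk i (a z).2) (fun z _ => hk j (b z).2) := by
  let g := gAff V₀ P hPV
  let q2 : ∀ ij : I × I, pullback (emb P ij.1 ≫ g) (emb P ij.2 ≫ g) ⟶ pullback g g := fun ij =>
    pullback.map _ _ _ _ (emb P ij.1) (emb P ij.2) (𝟙 _) (Category.comp_id _) (Category.comp_id _)
  have q2f : ∀ ij, q2 ij ≫ pullback.fst g g = pullback.fst _ _ ≫ emb P ij.1 := fun ij => pullback.lift_fst _ _ _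
  have q2s : ∀ ij, q2 ij ≫ pullback.snd g g = pullback.snd _ _ ≫ emb P ij.2 := fun ij => pullback.lift_snd _ _ _
  let r : ∀ ij : I × I, Γ(pullback (emb P ij.1 ≫ g) (emb P ij.2 ≫ g), ⊤)ˣ := fun ij =>
    D.κ (pullback.fst _ _ ≫ (P ij.1).ι) (pullback.snd _ _ ≫ (P ij.2).ι)
      (over_base V₀ P hPV _ _ (by rw [Category.assoc, Category.assoc]; exact pullback.condition))
      (k ij.1) (k ij.2)
      (fun z _ => hk ij.1 ((pullback.fst (emb P ij.1 ≫ g) (emb P ij.2 ≫ g)) z).2)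
      (fun z _ => hk ij.2 ((pullback.snd (emb P ij.1 ≫ g) (emb P ij.2 ≫ g)) z).2)
  obtain ⟨u, hu⟩ := UnitDescent.exists_unit q2 (fun z => by
      obtain ⟨i, a, ha⟩ := emb_cover P (pullback.fst g g z)
      obtain ⟨j, b, hb⟩ := emb_cover P (pullback.snd g g z)
      have : z ∈ Set.range (q2 (i, j)) := by
        rw [Scheme.Pullback.range_map]
        exact ⟨⟨a, ha⟩, b, hb⟩
      exact ⟨(i, j), this⟩) r fun ij ij' Z m m' e => by
    by_cases hZ : IsEmpty Z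
    · exact Units.ext (Subsingleton.elim _ _)
    have e1 : (m ≫ pullback.fst _ _) ≫ emb P ij.1 = (m' ≫ pullback.fst _ _) ≫ emb P ij'.1 := by
      rw [Category.assoc, Category.assoc, ← q2f, ← q2f, reassoc_of% e]
    have e2 : (m ≫ pullback.snd _ _) ≫ emb P ij.2 = (m' ≫ pullback.snd _ _) ≫ emb P ij'.2 := by
      rw [Category.assoc, Category.assoc, ← q2s, ← q2s, reassoc_of% e]
    obtain rfl : ij = ij' := Prod.ext (by_contra fun hne => hZ (emb_disjoint P _ _ e1 hne))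
      (by_contra fun hne => hZ (emb_disjoint P _ _ e2 hne))
    rw [cancel_mono] at e1 e2
    simp only [r, D.nat]
    exact κ_congr D (by rw [reassoc_of% e1]) (by rw [reassoc_of% e2]) _ _ _ _ _
  refine ⟨u, fun i j a b h => ?_⟩
  let m := pullback.lift (f := emb P i ≫ g) (g := emb P j ≫ g) a b
    (by rw [← Category.assoc, ← Category.assoc]; exact h)
  have em : m ≫ q2 (i, j) = pullback.lift _ _ h := by
    refine pullback.hom_ext ?_ ?_
    · rw [Category.assoc, q2f, pullback.lift_fst_assoc, pullback.lift_fst]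
    · rw [Category.assoc, q2s, pullback.lift_snd_assoc, pullback.lift_snd]
  rw [← em, uP_comp, hu]
  simp only [r, D.nat]
  exact κ_congr D (by rw [pullback.lift_fst_assoc]) (by rw [pullback.lift_snd_assoc]) _ _ _ _ _

include hPV in
theorem exists_triv_affine (k : I → X) (hk : ∀ i, P i ≤ F.U (k i))
    (hcov : ∀ w ∈ V₀, ∃ i, ∃ x ∈ P i, v x = w) (y : Y) (hy : y ∈ V₀) :
    ∃ (V : Y.Opens) (_ : y ∈ V), Nonempty (Triv D V) := by
  let g := gAff V₀ P hPV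
  haveI hflat : ∀ i, Flat (piece V₀ P hPV i) := fun i => by unfold piece; infer_instance
  haveI : Flat (Sigma.desc (piece V₀ P hPV)) := IsZariskiLocalAtSource.sigmaDesc fun i => hflat i
  haveI : Surjective (Sigma.desc (piece V₀ P hPV)) := Surjective.sigmaDesc_of_union_range_eq_univ
    (Set.eq_univ_of_forall fun w => by
      obtain ⟨i, x, hx, e⟩ := hcov w.1 w.2
      refine Set.mem_iUnion.2 ⟨i, ⟨x, hx⟩, V₀.ι.isOpenEmbedding.injective ?_⟩
      rw [← Scheme.Hom.comp_apply, piece_ι]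
      exact e)
  haveI : Flat g := by unfold g gAff; infer_instance
  haveI : Surjective g := by unfold g gAff; infer_instance
  obtain ⟨u, hu⟩ := exists_cocycle D V₀ P hPV k hk
  obtain ⟨Dp, hpD, hDaff, γ, hγ⟩ := exists_gamma g u (fun {Z} y₁ y₂ y₃ h₁₂ h₂₃ => by
    refine UnitDescent.eq_of_uP (fun ijl : I × I × I =>
        ((y₁ ⁻¹ᵁ (emb P ijl.1).opensRange ⊓ y₂ ⁻¹ᵁ (emb P ijl.2.1).opensRange ⊓
          y₃ ⁻¹ᵁ (emb P ijl.2.2).opensRange)).ι)
      (fun z => ?_) fun ⟨i, j, l⟩ => ?_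
    · obtain ⟨i, a, ha⟩ := emb_cover P (y₁ z)
      obtain ⟨j, b, hb⟩ := emb_cover P (y₂ z)
      obtain ⟨l, c, hc⟩ := emb_cover P (y₃ z)
      exact ⟨(i, j, l), ⟨z, ⟨⟨a, ha⟩, b, hb⟩, c, hc⟩, rfl⟩
    · let O := y₁ ⁻¹ᵁ (emb P i).opensRange ⊓ y₂ ⁻¹ᵁ (emb P j).opensRange ⊓ y₃ ⁻¹ᵁ (emb P l).opensRange
      let a₁ := IsOpenImmersion.lift (emb P i) (O.ι ≫ y₁) (by rintro _ ⟨z, rfl⟩; exact z.2.1.1)
      let a₂ := IsOpenImmersion.lift (emb P j) (O.ι ≫ y₂) (by rintro _ ⟨z, rfl⟩; exact z.2.1.2)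
      let a₃ := IsOpenImmersion.lift (emb P l) (O.ι ≫ y₃) (by rintro _ ⟨z, rfl⟩; exact z.2.2)
      have hlift : ∀ {p q : I} (a : O.toScheme ⟶ (P p).toScheme) (b : O.toScheme ⟶ (P q).toScheme)
          (y y' : Z ⟶ Spec Γ(Qs P, ⊤)) (ha : a ≫ emb P p = O.ι ≫ y) (hb : b ≫ emb P q = O.ι ≫ y')
          (h : y ≫ g = y' ≫ g),
          O.ι ≫ pullback.lift y y' h = pullback.lift (a ≫ emb P p) (b ≫ emb P q)
            (by rw [ha, hb, Category.assoc, Category.assoc, h]) := fun a b y y' ha hb h => by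
        refine pullback.hom_ext ?_ ?_
        · rw [Category.assoc, pullback.lift_fst, pullback.lift_fst, ha]
        · rw [Category.assoc, pullback.lift_snd, pullback.lift_snd, hb]
      have l1 : a₁ ≫ emb P i = O.ι ≫ y₁ := IsOpenImmersion.lift_fac _ _ _
      have l2 : a₂ ≫ emb P j = O.ι ≫ y₂ := IsOpenImmersion.lift_fac _ _ _
      have l3 : a₃ ≫ emb P l = O.ι ≫ y₃ := IsOpenImmersion.lift_fac _ _ _
      have e12 := (uP_comp O.ι (pullback.lift y₁ y₂ h₁₂) u).symm.trans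
        ((congrArg (fun m => uP m u) (hlift a₁ a₂ y₁ y₂ l1 l2 h₁₂)).trans (hu i j a₁ a₂ _))
      have e23 := (uP_comp O.ι (pullback.lift y₂ y₃ h₂₃) u).symm.trans
        ((congrArg (fun m => uP m u) (hlift a₂ a₃ y₂ y₃ l2 l3 h₂₃)).trans (hu j l a₂ a₃ _))
      have e13 := (uP_comp O.ι (pullback.lift y₁ y₃ (h₁₂.trans h₂₃)) u).symm.trans
        ((congrArg (fun m => uP m u) (hlift a₁ a₃ y₁ y₃ l1 l3 (h₁₂.trans h₂₃))).trans (hu i l a₁ a₃ _))
      exact (map_mul (uP O.ι) _ _).trans ((congrArg₂ (· * ·) e12 e23).trans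
        ((D.cocycle _ _ _ _ _ _ _ _ _ _ _).trans e13.symm))) (V₀.toScheme.isoSpec.hom ⟨y, hy⟩)
  let V₁ : V₀.toScheme.Opens := V₀.toScheme.isoSpec.hom ⁻¹ᵁ Dp
  let V : Y.Opens := V₀.ι ''ᵁ V₁
  let P' : I → X.Opens := fun i => P i ⊓ v ⁻¹ᵁ V
  have hin : ∀ i, (⊤ : (P' i).toScheme.Opens) ≤
      (X.homOfLE (inf_le_left : P' i ≤ P i) ≫ emb P i) ⁻¹ᵁ (g ⁻¹ᵁ Dp) := fun i x _ => by
    obtain ⟨w₁, hw₁, e⟩ := x.2.2
    show (emb P i ≫ g) (X.homOfLE (inf_le_left : P' i ≤ P i) x) ∈ Dp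
    rw [emb_g, Scheme.Hom.comp_apply,
      show piece V₀ P hPV i (X.homOfLE (inf_le_left : P' i ≤ P i) x) = w₁ from V₀.ι.isOpenEmbedding.injective (by
        refine Eq.trans ?_ e.symm
        show (X.homOfLE (inf_le_left : P' i ≤ P i) ≫ piece V₀ P hPV i ≫ V₀.ι) x = v x.1
        rw [piece_ι, Scheme.homOfLE_ι_assoc]
        rfl)]
    exact hw₁
  refine ⟨V, ⟨⟨y, hy⟩, hpD, rfl⟩, exists_triv_of_pieces D P' k (fun i => inf_le_left.trans (hk i))
    (fun i => inf_le_right) (fun i => quasiCompact_piece V₀ P hPV (hDaff.preimage_of_isIso V₀.toScheme.isoSpec.hom) i) (fun w hw' => ?_) (fun i => uP (lp _ _ (hin i)) γ) fun i j Z z₁ z₂ h => ?_⟩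
  · have hw₀ : w ∈ V₀ := by obtain ⟨w₁, -, rfl⟩ := hw'; exact w₁.2
    obtain ⟨i, x, hx, e⟩ := hcov w hw₀
    exact ⟨i, x, ⟨hx, show v x ∈ V by rw [e]; exact hw'⟩, e⟩
  · let a : Z ⟶ (P i).toScheme := z₁ ≫ X.homOfLE inf_le_left
    let b : Z ⟶ (P j).toScheme := z₂ ≫ X.homOfLE inf_le_left
    have ea : a ≫ (P i).ι = z₁ ≫ (P' i).ι := by rw [Category.assoc, Scheme.homOfLE_ι]
    have eb : b ≫ (P j).ι = z₂ ≫ (P' j).ι := by rw [Category.assoc, Scheme.homOfLE_ι]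
    have hg : (a ≫ emb P i) ≫ g = (b ≫ emb P j) ≫ g := by
      rw [Category.assoc a, Category.assoc b, emb_g, emb_g, ← Category.assoc a, ← Category.assoc b]
      congr 1
      rw [← cancel_mono V₀.ι, Category.assoc a, Category.assoc b, piece_ι, piece_ι, ← Category.assoc a,
        ← Category.assoc b, ea, eb, h]
    have l1 : (z₁ ≫ lp _ _ (hin i)) ≫ (g ⁻¹ᵁ Dp).ι = a ≫ emb P i := by
      rw [Category.assoc, lp_ι, Category.assoc]
    have l2 : (z₂ ≫ lp _ _ (hin j)) ≫ (g ⁻¹ᵁ Dp).ι = b ≫ emb P j := by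
      rw [Category.assoc, lp_ι, Category.assoc]
    have := hγ (z₁ ≫ lp _ _ (hin i)) (z₂ ≫ lp _ _ (hin j)) (by rw [l1, l2]; exact hg)
    simp only [l1, l2, uP_comp] at this
    rw [← this]
    congr 1
    exact (κ_congr D ea.symm eb.symm _ _ _ _ _).trans (hu i j a b hg).symm

end Affine

variable [QuasiCompact v]

/-- A solution exists near each point. -/
theorem exists_triv [Surjective v] (y : Y) : ∃ (V : Y.Opens) (_ : y ∈ V), Nonempty (Triv D V) := by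
  classical
  obtain ⟨_, ⟨V', hV'', rfl⟩, hy, -⟩ :=
    Y.isBasis_affineOpens.exists_subset_of_mem_open (a := y) (by trivial) isOpen_univ
  let V₀ : Y.Opens := V'
  have hV' : IsAffineOpen V₀ := hV''
  have hcov : ∀ w ∈ V₀, ∃ x, v x = w := fun w _ => v.surjective w
  choose Q hQ hQx hQs using fun x : { x : X // v x ∈ V₀ } =>
    (show ∃ Q : X.Opens, IsAffineOpen Q ∧ x.1 ∈ Q ∧ Q ≤ v ⁻¹ᵁ V₀ ⊓ F.U x.1 by
      obtain ⟨_, ⟨Q, hQ, rfl⟩, hx, hQs⟩ := X.isBasis_affineOpens.exists_subset_of_mem_open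
        (a := x.1) (u := (v ⁻¹ᵁ V₀ ⊓ F.U x.1 : X.Opens)) ⟨x.2, F.mem _⟩ (v ⁻¹ᵁ V₀ ⊓ F.U x.1).2
      exact ⟨Q, hQ, hx, hQs⟩)
  obtain ⟨t, ht⟩ := (v.isCompact_preimage hV'.isCompact).elim_finite_subcover
    (fun x => (Q x : Set X)) (fun x => (Q x).2) fun x hx => Set.mem_iUnion.2 ⟨⟨x, hx⟩, hQx _⟩
  haveI : IsAffine V₀.toScheme := hV'
  haveI : ∀ i : t, IsAffine (Q i.1).toScheme := fun i => hQ _
  refine exists_triv_affine D V₀ (fun i : t => Q i.1) (fun i => (hQs i.1).trans inf_le_left)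
    (fun i => i.1.1) (fun i => (hQs i.1).trans inf_le_right) (fun w hw => ?_) y hy
  obtain ⟨x, hx⟩ := hcov w hw
  have := ht (show x ∈ v ⁻¹ᵁ V₀ by show v x ∈ V₀; rw [hx]; exact hw)
  simp only [Set.mem_iUnion] at this
  obtain ⟨i, hit, hxi⟩ := this
  exact ⟨⟨i, hit⟩, x, hxi, hx⟩

variable {D}

/-- The quotient of two solutions descends. -/
theorem exists_trans [Surjective v] {V V' : Y.Opens} (b : Triv D V) (b' : Triv D V') :
    ∃ t : Γ(Y, V ⊓ V')ˣ, ∀ {Z : Scheme.{u}} (x : Z ⟶ X) (a : X) (ha : (⊤ : Z.Opens) ≤ x ⁻¹ᵁ F.U a)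
      (hv : (⊤ : Z.Opens) ≤ (x ≫ v) ⁻¹ᵁ (V ⊓ V')),
      ev (x ≫ v) hv t * ev x (U := F.U a ⊓ v ⁻¹ᵁ V') (fun _ _ => ⟨ha trivial, (hv trivial).2⟩) (b'.β a) =
        ev x (U := F.U a ⊓ v ⁻¹ᵁ V) (fun _ _ => ⟨ha trivial, (hv trivial).1⟩) (b.β a) := by
  let O : X → X.Opens := fun a => F.U a ⊓ v ⁻¹ᵁ (V ⊓ V')
  let q : ∀ a, (O a).toScheme ⟶ (V ⊓ V').toScheme := fun a =>
    X.homOfLE (inf_le_right : O a ≤ v ⁻¹ᵁ (V ⊓ V')) ≫ (v ∣_ (V ⊓ V'))
  have hq : ∀ a, q a ≫ (V ⊓ V').ι = (O a).ι ≫ v := fun a => by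
    rw [Category.assoc, morphismRestrict_ι, Scheme.homOfLE_ι_assoc]
  let r : ∀ a, Γ((O a).toScheme, ⊤)ˣ := fun a =>
    ev (O a).ι (U := F.U a ⊓ v ⁻¹ᵁ V) (fun z _ => ⟨z.2.1, z.2.2.1⟩) (b.β a) /
      ev (O a).ι (U := F.U a ⊓ v ⁻¹ᵁ V') (fun z _ => ⟨z.2.1, z.2.2.2⟩) (b'.β a)
  obtain ⟨s, hs'⟩ := FpqcPic.exists_unit q (mem_restrict (v := v) O (fun a => inf_le_right)
    fun x hx => ⟨x, F.mem x, hx⟩ ) r fun a c Z m m' e => by
    simp only [r, map_div, uP_ev]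
    have e' : (m ≫ (O a).ι) ≫ v = (m' ≫ (O c).ι) ≫ v := by
      rw [Category.assoc, Category.assoc, ← hq, ← hq, reassoc_of% e]
    rw [← b.spec _ _ e' a c (fun z _ => (m z).2.1) (fun z _ => (m' z).2.1) (fun z _ => (m z).2.2.1),
      ← b'.spec _ _ e' a c (fun z _ => (m z).2.1) (fun z _ => (m' z).2.1) (fun z _ => (m z).2.2.2),
      mul_div_mul_right_eq_div]
  obtain ⟨t, ht⟩ := exists_ev_eq s
  refine ⟨t, fun {Z} x a ha hv => ?_⟩
  have hO : (⊤ : Z.Opens) ≤ x ⁻¹ᵁ O a := fun _ _ => ⟨ha trivial, hv trivial⟩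
  have e : lp (O a) x hO ≫ q a = lp (V ⊓ V') (x ≫ v) hv := by
    rw [← cancel_mono (V ⊓ V').ι, Category.assoc, hq, lp_ι, ← Category.assoc, lp_ι]
  rw [ev_lp (x ≫ v), ht, ← e, uP_comp, hs']
  simp only [r, map_div, uP_ev, ← eq_div_iff_mul_eq']
  rw [ev_congr (lp_ι (O a) x hO), ev_congr (lp_ι (O a) x hO)]

/-- **Descent of an invertible module.** -/
theorem exists_descent [Surjective v] (D : Datum v F) :
    ∃ M : Y.Modules, PicF.IsInvertible M ∧ Nonempty ((Scheme.Modules.pullback v).obj M ≅ L) := by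
  choose V hy hb using exists_triv D
  let b : ∀ y, Triv D (V y) := fun y => (hb y).some
  choose t ht using fun i j : Y => exists_trans (b i) (b j)
  let co : H23.CocycleMod.Cocycle V := ⟨t, fun i j k W hi hj hk => by
    let g : ∀ p q : Y, W ≤ V p → W ≤ V q → Γ(Y, W)ˣ := fun p q hp hq =>
      Units.map (resR (le_inf hp hq)).toMonoidHom (t p q)
    suffices g i k hi hk = g j k hj hk * g i j hi hj from congrArg Units.val this
    refine ev_ι_injective ?_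
    let O : X → X.Opens := fun a => F.U a ⊓ v ⁻¹ᵁ W
    let q : ∀ a, (O a).toScheme ⟶ W.toScheme := fun a =>
      X.homOfLE (inf_le_right : O a ≤ v ⁻¹ᵁ W) ≫ (v ∣_ W)
    have hq : ∀ a, q a ≫ W.ι = (O a).ι ≫ v := fun a => by
      rw [Category.assoc, morphismRestrict_ι, Scheme.homOfLE_ι_assoc]
    refine FpqcPic.eq_of_uP q (mem_restrict (v := v) O (fun a => inf_le_right)
      fun x hx => ⟨x, F.mem x, hx⟩ ) fun a => ?_
    · have hW : (⊤ : (O a).toScheme.Opens) ≤ ((O a).ι ≫ v) ⁻¹ᵁ W := fun z _ => z.2.2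
      have hg : ∀ p q' (hp : W ≤ V p) (hq' : W ≤ V q'), uP (q a) (ev W.ι (ι_le W le_rfl) (g p q' hp hq')) =
          ev ((O a).ι ≫ v) (U := V p ⊓ V q') (fun z _ => ⟨hp z.2.2, hq' z.2.2⟩) (t p q') := fun p q' hp hq' => by
        rw [uP_ev, ev_congr (hq a), ev_eq ((O a).ι ≫ v) hW (le_inf hp hq') (t p q') (g p q' hp hq') rfl]
      rw [map_mul, map_mul, hg i k hi hk, hg j k hj hk, hg i j hi hj]
      have key : ∀ p q' (hp : W ≤ V p) (hq' : W ≤ V q'),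
          ev ((O a).ι ≫ v) (U := V p ⊓ V q') (fun z _ => ⟨hp z.2.2, hq' z.2.2⟩) (t p q') =
            ev (O a).ι (U := F.U a ⊓ v ⁻¹ᵁ V p) (fun z _ => ⟨z.2.1, hp z.2.2⟩) ((b p).β a) /
              ev (O a).ι (U := F.U a ⊓ v ⁻¹ᵁ V q') (fun z _ => ⟨z.2.1, hq' z.2.2⟩) ((b q').β a) :=
        fun p q' hp hq' => eq_div_iff_mul_eq'.2
          (ht p q' (O a).ι a (fun z _ => z.2.1) (fun z _ => ⟨hp z.2.2, hq' z.2.2⟩))
      rw [key i k hi hk, key j k hj hk, key i j hi hj, mul_comm, div_mul_div_cancel]⟩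
  let M := H23.CocycleMod.mod co
  have hV : iSup V = ⊤ := top_le_iff.1 fun y _ => Opens.mem_iSup.2 ⟨y, hy y⟩
  refine ⟨M, H23.CocycleMod.isInvertible co hV, ?_⟩
  let N := (Scheme.Modules.pullback v).obj M
  let U : Y × X → X.Opens := fun p => F.U p.2 ⊓ v ⁻¹ᵁ V p.1
  have hcov : ∀ x, ∃ p, x ∈ U p := fun x => ⟨(v x, x), F.mem x, hy _⟩
  let e : ∀ p, Γ(N, U p) := fun p => res N inf_le_right (pullElt v (H23.CocycleMod.frame co p.1))
  have he : ∀ p, IsFrame (e p) := fun p => (isFrame_pullElt v (H23.CocycleMod.isFrame_frame co p.1)).res _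
  let n : ∀ p, Γ(L, U p) := fun p => (((b p.1).β p.2 : Γ(X, U p))) • res L inf_le_left (F.e p.2)
  have hn : ∀ p, IsFrame (n p) := fun p => ((F.he p.2).res _).isUnit_smul ((b p.1).β p.2).isUnit
  have main : ∀ (p q : Y × X) (W : X.Opens) (hp : W ≤ U p) (hq : W ≤ U q),
      ∃ g : Γ(X, W), res N hq (e q) = g • res N hp (e p) ∧ res L hq (n q) = g • res L hp (n p) := by
    intro p q W hp hq
    obtain ⟨i, a⟩ := p
    obtain ⟨j, c⟩ := q
    have wi : W ≤ v ⁻¹ᵁ V i := hp.trans inf_le_right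
    have wj : W ≤ v ⁻¹ᵁ V j := hq.trans inf_le_right
    have wa : W ≤ F.U a := hp.trans inf_le_left
    have wc : W ≤ F.U c := hq.trans inf_le_left
    let G : Γ(X, W)ˣ := Units.map (v.appLE (V j ⊓ V i) W (le_inf wj wi)).hom.toMonoidHom (t j i)
    let Bi : Γ(X, W)ˣ := Units.map (resR hp).toMonoidHom ((b i).β a)
    let Bj : Γ(X, W)ˣ := Units.map (resR hq).toMonoidHom ((b j).β c)
    let τac : Γ(X, W)ˣ := Units.map (resR (le_inf wa wc)).toMonoidHom (tr (F.he a) (F.he c))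
    refine ⟨G, ?_, ?_⟩
    · show res N hq (res N _ _) = _ • res N hp (res N _ _)
      rw [res_res, res_res]
      have h := congrArg (fun s => res N (show W ≤ v ⁻¹ᵁ (V j ⊓ V i) from le_inf wj wi) (pullElt v s))
        (H23.CocycleMod.res_frame co j i)
      erw [pullElt_res, FramesTrans.pullElt_smul, pullElt_res, res_smul, res_res, res_res] at h
      exact h
    · have key : Bj * τac = G * Bi := by
        refine ev_ι_injective ?_
        have hW : (⊤ : W.toScheme.Opens) ≤ W.ι ⁻¹ᵁ W := ι_le W le_rfl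
        have hG : ev W.ι hW G = ev (W.ι ≫ v) (U := V j ⊓ V i) (fun z _ => ⟨wj z.2, wi z.2⟩) (t j i) :=
          Units.ext (ConcreteCategory.congr_hom
            (Scheme.Hom.appLE_comp_appLE W.ι v (V j ⊓ V i) W ⊤ (le_inf wj wi) hW) (t j i : Γ(Y, V j ⊓ V i)))
        rw [map_mul, map_mul, hG, ev_eq W.ι hW hp _ Bi rfl, ev_eq W.ι hW hq _ Bj rfl,
          ev_eq W.ι hW (le_inf wa wc) _ τac rfl]
        rw [ht j i W.ι a (fun z _ => wa z.2) (fun z _ => ⟨wj z.2, wi z.2⟩)]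
        refine Eq.trans ?_ ((b j).spec W.ι W.ι rfl c a (fun z _ => wc z.2) (fun z _ => wa z.2) (fun z _ => wj z.2))
        rw [D.diag]
        rfl
      show res L hq (((b j).β c : Γ(X, F.U c ⊓ v ⁻¹ᵁ V j)) • res L _ (F.e c)) =
        _ • res L hp (((b i).β a : Γ(X, F.U a ⊓ v ⁻¹ᵁ V i)) • res L _ (F.e a))
      rw [res_smul, res_smul, res_res, res_res, tr_spec (F.he a) (F.he c) wa wc, smul_smul, smul_smul]
      exact congrArg (· • res L wa (F.e a)) (congrArg Units.val key)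
  exact nonempty_iso_of_main U hcov e n he hn main

end Local

end Groth.Agent.FpqcPic.Descent
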