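import Groth.Agent.FpqcPic.Descent
import Groth.Agent.FpqcPic.Datum
import Groth.Agent.H23.PicMul

/-!
Invertible classes modulo the base descend along flat quasi-compact surjections when there is a section.
-/

set_option autoImplicit false
set_option linter.unusedSectionVars false
set_option linter.style.haveILetI false
set_option backward.isDefEq.respectTransparency false
set_option backward.isDefEq.respectTransparency.types false
set_option maxHeartbeats 800000

universe u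

open CategoryTheory CategoryTheory.Limits AlgebraicGeometry TopologicalSpace Opposite

noncomputable section

namespace Groth.Agent.FpqcPic

open Groth.Agent.RigDatum
open scoped Groth.Agent.H23.PicMul

variable {X S : Scheme.{u}} (f : X ⟶ S) [QuasiCompact f] [QuasiSeparated f] (σ : S ⟶ X) (hσ : σ ≫ f = 𝟙 S)
  (hf : ∀ U : S.Opens, Function.Bijective (f.app U)) (T : Over S) [Flat T.hom] {U : Scheme.{u}} (u : U ⟶ T.left)
  [Flat u] [Surjective u] [QuasiCompact u]

include σ hσ hf in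
theorem exists_descent_mod_base {L : (PicF.XT f (AbDual.ovr T u)).Modules} (hL : PicF.IsInvertible L)
    {n : PicF.Cl (R₂ T u).left} (hn : PicF.IsInvertibleCl n)
    (hglue : PicF.pullCl (PicF.XTmap f (r₁ T u)) (PicF.cl L) =
      PicF.pullCl (PicF.XTmap f (r₂ T u)) (PicF.cl L) * PicF.pullCl (PicF.XTproj f (R₂ T u)) n) :
    ∃ (M : (PicF.XT f T).Modules) (N : U.Modules), PicF.IsInvertible M ∧ PicF.IsInvertible N ∧
      PicF.cl L = PicF.pullCl (v f T u) (PicF.cl M) * PicF.pullCl (PicF.XTproj f (AbDual.ovr T u)) (PicF.cl N) := by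
  let sec := PicF.secT f σ hσ (AbDual.ovr T u)
  let sec₂ := PicF.secT f σ hσ (R₂ T u)
  let proj := PicF.XTproj f (AbDual.ovr T u)
  let proj₂ := PicF.XTproj f (R₂ T u)
  let a := PicF.cl L
  let b := PicF.pullCl sec a
  have hsp : ∀ Q : Over S, PicF.secT f σ hσ Q ≫ PicF.XTproj f Q = 𝟙 Q.left := fun Q => pullback.lift_snd _ _ _
  have hb : PicF.IsInvertibleCl b := PicClLib.isInvertibleCl_pullCl _ ⟨L, rfl, hL⟩
  obtain ⟨⟨b', hb'⟩, hbb⟩ := H23.PicMul.exists_inv ⟨b, hb⟩
  have hbb' : b * b' = 1 := (mul_comm _ _).trans hbb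
  obtain ⟨L₁, hL₁c, hL₁⟩ :=
    H23.PicMul.isInvertibleCl_mul (c := a) (d := PicF.pullCl proj b') ⟨L, rfl, hL⟩ (PicClLib.isInvertibleCl_pullCl _ hb')
  have hsec : ∀ r : R₂ T u ⟶ AbDual.ovr T u, ∀ c : PicF.Cl (PicF.XT f (AbDual.ovr T u)),
      PicF.pullCl sec₂ (PicF.pullCl (PicF.XTmap f r) c) = PicF.pullCl r.left (PicF.pullCl sec c) := fun r c => by
    rw [PicClLib.pullCl_comp, PicClLib.pullCl_comp, Datum.secT_map]
  have h2 : PicF.pullCl (r₁ T u).left b = PicF.pullCl (r₂ T u).left b * n := by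
    have := congrArg (PicF.pullCl sec₂) hglue
    rw [H23.PicMul.pullCl_mul, hsec, hsec, PicClLib.pullCl_comp sec₂ _ n, hsp, PicClLib.pullCl_id] at this
    exact this
  have hproj : ∀ r : R₂ T u ⟶ AbDual.ovr T u, ∀ c : PicF.Cl U,
      PicF.pullCl (PicF.XTmap f r) (PicF.pullCl proj c) = PicF.pullCl proj₂ (PicF.pullCl r.left c) := fun r c => by
    rw [PicClLib.pullCl_comp, PicClLib.pullCl_comp, XTmap_snd]
  have hbr : ∀ r : R₂ T u ⟶ AbDual.ovr T u, PicF.pullCl r.left b * PicF.pullCl r.left b' = 1 := fun r => by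
    rw [← H23.PicMul.pullCl_mul, show b * b' = 1 from hbb', H23.PicMul.pullCl_one]
  have hn2 : n * PicF.pullCl (r₁ T u).left b' = PicF.pullCl (r₂ T u).left b' := by
    calc n * PicF.pullCl (r₁ T u).left b'
        = PicF.pullCl (r₂ T u).left b * PicF.pullCl (r₂ T u).left b' * (n * PicF.pullCl (r₁ T u).left b') := by
          rw [hbr, one_mul]
      _ = (PicF.pullCl (r₂ T u).left b * n) * PicF.pullCl (r₁ T u).left b' * PicF.pullCl (r₂ T u).left b' := by
          simp only [mul_assoc, mul_left_comm, mul_comm]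
      _ = PicF.pullCl (r₂ T u).left b' := by rw [← h2, hbr, one_mul]
  have hglue₁ : PicF.pullCl (PicF.XTmap f (r₁ T u)) (PicF.cl L₁) =
      PicF.pullCl (PicF.XTmap f (r₂ T u)) (PicF.cl L₁) := by
    rw [hL₁c, H23.PicMul.pullCl_mul, H23.PicMul.pullCl_mul, hproj, hproj, hglue, mul_assoc,
      ← H23.PicMul.pullCl_mul, hn2]
  have htriv : PicF.pullCl sec (PicF.cl L₁) = 1 := by
    rw [hL₁c, H23.PicMul.pullCl_mul, PicClLib.pullCl_comp, hsp, PicClLib.pullCl_id]
    exact hbb'
  obtain ⟨θ⟩ := H23.PicMul.cl_eq_iff.1 htriv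
  obtain ⟨φ⟩ := H23.PicMul.cl_eq_iff.1 hglue₁
  obtain ⟨F⟩ := FramesTrans.nonempty_frames hL₁
  obtain ⟨D⟩ := Datum.exists_datum f σ hσ hf F φ θ
  have hv : IsPullback (v f T u) (pullback.snd f (u ≫ T.hom)) (pullback.snd f T.hom) u := by
    refine IsPullback.of_right ?_ (XTmap_snd f (AbDual.ovrHom T u)) (IsPullback.of_hasPullback f T.hom)
    rw [XTmap_fst f (AbDual.ovrHom T u)]
    exact IsPullback.of_hasPullback f (u ≫ T.hom)
  haveI : Flat (v f T u) := MorphismProperty.of_isPullback hv.flip ‹Flat u›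
  haveI : Surjective (v f T u) := MorphismProperty.of_isPullback hv.flip ‹Surjective u›
  haveI : QuasiCompact (v f T u) := MorphismProperty.of_isPullback hv.flip ‹QuasiCompact u›
  obtain ⟨M, hM, ⟨e⟩⟩ := Descent.exists_descent D
  obtain ⟨N, hNc, hN⟩ := hb
  refine ⟨M, N, hM, hN, ?_⟩
  rw [show PicF.pullCl (v f T u) (PicF.cl M) = PicF.cl L₁ from H23.PicMul.cl_eq_iff.2 ⟨e⟩, hL₁c, hNc, mul_assoc,
    ← H23.PicMul.pullCl_mul, mul_comm b', show b * b' = 1 from hbb', H23.PicMul.pullCl_one, mul_one]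

end Groth.Agent.FpqcPic
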